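import Mathlib

/-!
# Primes through a nonzerodivisor in a local ring of dimension at most two
-/

set_option autoImplicit false
universe u

namespace Groth.Agent.Lib.Helper18.Key

open IsLocalRing

variable {A : Type u} [CommRing A] [IsLocalRing A]

/-- A prime containing a nonzerodivisor has positive height. -/
theorem one_le_height {t : A} (ht : t ∈ nonZeroDivisors A) (q : Ideal A) [q.IsPrime]
    (htq : t ∈ q) : 1 ≤ q.height := by
  rw [Order.one_le_iff_ne_zero, Ne, Ideal.height_eq_zero_iff]
  intro hmin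
  exact absurd ht (notMem_nonZeroDivisors_of_mem_mem_minimalPrimes htq hmin)

/-- In a local ring of dimension at most two, the only prime strictly above a prime through a
nonzerodivisor is the maximal ideal. -/
theorem eq_maximalIdeal_of_lt (hA : ringKrullDim A ≤ 2) {t : A} (ht : t ∈ nonZeroDivisors A)
    (q : Ideal A) [q.IsPrime] (htq : t ∈ q) (p : Ideal A) [p.IsPrime] (hqp : q < p) :
    p = maximalIdeal A := by
  by_contra hne
  have hlt : p < maximalIdeal A := lt_of_le_of_ne (le_maximalIdeal (Ideal.IsPrime.ne_top ‹_›)) hne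
  have h1 : 1 ≤ q.height := one_le_height ht q htq
  have h2 : q.height + 1 ≤ p.height := Ideal.height_add_one_le_of_lt_of_isPrime hqp
  have h3 : p.height + 1 ≤ (maximalIdeal A).height := Ideal.height_add_one_le_of_lt_of_isPrime hlt
  have h4 : ((maximalIdeal A).height : WithBot ℕ∞) ≤ 2 :=
    (IsLocalRing.maximalIdeal_height_eq_ringKrullDim (R := A)).le.trans hA
  have h5 : (maximalIdeal A).height ≤ 2 :=
    WithBot.coe_le_coe.1 (h4.trans_eq (by rfl : (2 : WithBot ℕ∞) = ((2 : ℕ∞) : WithBot ℕ∞)))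
  have h6 : (3 : ℕ∞) ≤ (maximalIdeal A).height := by
    calc (3 : ℕ∞) = 1 + 1 + 1 := by norm_num
      _ ≤ q.height + 1 + 1 := by gcongr
      _ ≤ p.height + 1 := by gcongr
      _ ≤ _ := h3
  have : (3 : ℕ∞) ≤ 2 := h6.trans h5
  exact absurd this (by norm_num)

/-- Primes containing such a prime are the prime itself or the maximal ideal. -/
theorem eq_or_eq_maximalIdeal_of_le (hA : ringKrullDim A ≤ 2) {t : A}
    (ht : t ∈ nonZeroDivisors A) (q : Ideal A) [q.IsPrime] (htq : t ∈ q) (p : Ideal A)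
    [p.IsPrime] (hqp : q ≤ p) : p = q ∨ p = maximalIdeal A := by
  rcases eq_or_lt_of_le hqp with h | h
  · exact Or.inl h.symm
  · exact Or.inr (eq_maximalIdeal_of_lt hA ht q htq p h)

/-- The height of such a prime, when it is not the maximal ideal. -/
theorem height_eq_one (hA : ringKrullDim A ≤ 2) {t : A} (ht : t ∈ nonZeroDivisors A)
    (q : Ideal A) [q.IsPrime] (htq : t ∈ q) (hq : q ≠ maximalIdeal A) : q.height = 1 := by
  apply le_antisymm _ (one_le_height ht q htq)
  have hlt : q < maximalIdeal A := lt_of_le_of_ne (le_maximalIdeal (Ideal.IsPrime.ne_top ‹_›)) hq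
  have h3 : q.height + 1 ≤ (maximalIdeal A).height := Ideal.height_add_one_le_of_lt_of_isPrime hlt
  have h4 : ((maximalIdeal A).height : WithBot ℕ∞) ≤ 2 :=
    (IsLocalRing.maximalIdeal_height_eq_ringKrullDim (R := A)).le.trans hA
  have h5 : (maximalIdeal A).height ≤ 2 :=
    WithBot.coe_le_coe.1 (h4.trans_eq (by rfl : (2 : WithBot ℕ∞) = ((2 : ℕ∞) : WithBot ℕ∞)))
  have h6 : q.height + 1 ≤ 1 + 1 := h3.trans (h5.trans (by norm_num))
  exact (ENat.add_le_add_iff_right (by simp)).1 h6

theorem ringKrullDim_atPrime_le_one (hA : ringKrullDim A ≤ 2) {t : A}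
    (ht : t ∈ nonZeroDivisors A) (q : Ideal A) [q.IsPrime] (htq : t ∈ q)
    (hq : q ≠ maximalIdeal A) : ringKrullDim (Localization.AtPrime q) ≤ 1 := by
  rw [IsLocalization.AtPrime.ringKrullDim_eq_height q (Localization.AtPrime q),
    height_eq_one hA ht q htq hq]
  rfl

theorem krullDimLE_one_quotient (hA : ringKrullDim A ≤ 2) {t : A} (ht : t ∈ nonZeroDivisors A)
    (q : Ideal A) [q.IsPrime] (htq : t ∈ q) : Ring.KrullDimLE 1 (A ⧸ q) := by
  rw [Ring.krullDimLE_one_iff_of_noZeroDivisors]
  intro I hI hIp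
  haveI := hIp
  have hle : q ≤ I.comap (Ideal.Quotient.mk q) := by
    intro x hx
    rw [Ideal.mem_comap, Ideal.Quotient.eq_zero_iff_mem.2 hx]
    exact I.zero_mem
  have hne : I.comap (Ideal.Quotient.mk q) ≠ q := by
    intro h
    apply hI
    rw [eq_bot_iff]
    intro x hx
    obtain ⟨y, rfl⟩ := Ideal.Quotient.mk_surjective x
    have : y ∈ I.comap (Ideal.Quotient.mk q) := hx
    rw [h] at this
    rw [Ideal.mem_bot]
    exact Ideal.Quotient.eq_zero_iff_mem.2 this
  rcases eq_or_eq_maximalIdeal_of_le hA ht q htq _ hle with h | h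
  · exact absurd h hne
  · have hmax : (I.comap (Ideal.Quotient.mk q)).IsMaximal := h ▸ maximalIdeal.isMaximal A
    have hmap : (I.comap (Ideal.Quotient.mk q)).map (Ideal.Quotient.mk q) = I :=
      Ideal.map_comap_of_surjective _ Ideal.Quotient.mk_surjective I
    rw [← hmap]
    exact Ideal.IsMaximal.map_of_surjective_of_ker_le Ideal.Quotient.mk_surjective
      (by rw [Ideal.mk_ker]; exact hle)

end Groth.Agent.Lib.Helper18.Key
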