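import Mathlib
import Groth.Prelude.Def_Tame
import Groth.Agent.Lib.Helper18.Key.Basic
import Groth.Agent.Lib.Helper18.Tame.PresMap
import Groth.Agent.Lib.Helper18.Tame.Refine
import Groth.Agent.Lib.Helper18.Push.NormOrd

/-!
# Comparison of the local symbols of `A_q` and of a finite local extension `B` at a prime over `q`
-/

set_option autoImplicit false
set_option maxHeartbeats 1000000
set_option linter.style.haveILetI false
set_option linter.unusedSectionVars false
universe u
open IsLocalRing CycAlg Groth.Agent.Lib.Helper18.Tame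
namespace Groth.Agent.Lib.Helper18.Key

section Dim
variable {A : Type u} [CommRing A] [IsNoetherianRing A] [IsLocalRing A]

theorem withBot_le_zero_of_not_one_le (x : WithBot ℕ∞) (h : ¬ (1 ≤ x)) : x ≤ 0 := by
  induction x with
  | bot => exact bot_le
  | coe n =>
    have h1 : ¬ ((1 : ℕ∞) ≤ n) := fun h2 => h (by exact_mod_cast h2)
    have h2 : n = 0 := by
      by_contra h3
      exact h1 (Order.one_le_iff_pos.2 (pos_iff_ne_zero.2 h3))
    rw [h2]
    rfl

theorem ringKrullDim_quotient_eq_one (hA : ringKrullDim A ≤ 2) {t : A} (ht : t ∈ nonZeroDivisors A)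
    (q : Ideal A) [q.IsPrime] (htq : t ∈ q) (hq : q ≠ maximalIdeal A) :
    ringKrullDim (A ⧸ q) = 1 := by
  haveI := krullDimLE_one_quotient hA ht q htq
  have hle : ringKrullDim (A ⧸ q) ≤ 1 := (Order.krullDimLE_iff 1 _).1 inferInstance
  apply le_antisymm hle
  by_contra hlt
  have h0 : ringKrullDim (A ⧸ q) ≤ 0 := withBot_le_zero_of_not_one_le _ hlt
  haveI : Ring.KrullDimLE 0 (A ⧸ q) := (Order.krullDimLE_iff 0 _).2 h0
  have hf : IsField (A ⧸ q) := Ring.KrullDimLE.isField_of_isDomain
  have hmax := Ideal.Quotient.maximal_of_isField q hf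
  exact hq (IsLocalRing.eq_maximalIdeal hmax)
end Dim

section Len
variable {A B : Type u} [CommRing A] [IsLocalRing A] [CommRing B] [IsLocalRing B] [Algebra A B]

/-- `(B/q')/𝔪 ≃ B/𝔪_B` as `A`-modules. -/
theorem length_quot_quot (q : Ideal A) [q.IsPrime] (q' : Ideal B) [q'.IsPrime] [q'.LiesOver q]
    [IsLocalRing (B ⧸ q')] :
    Module.length (A ⧸ q) ((B ⧸ q') ⧸ maximalIdeal (B ⧸ q')) =
      Module.length A (B ⧸ maximalIdeal B) := by
  rw [← Module.length_eq_of_surjective (S := A) (R := A ⧸ q)
    (M := (B ⧸ q') ⧸ maximalIdeal (B ⧸ q')) Ideal.Quotient.mk_surjective]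
  let f : B →ₗ[A] ((B ⧸ q') ⧸ maximalIdeal (B ⧸ q')) :=
    ((maximalIdeal (B ⧸ q')).mkQ.restrictScalars A).comp
      ((Ideal.Quotient.mkₐ A q').toLinearMap)
  have hf : Function.Surjective f := by
    intro y
    obtain ⟨y', rfl⟩ := Submodule.mkQ_surjective _ y
    obtain ⟨b, rfl⟩ := Ideal.Quotient.mk_surjective y'
    exact ⟨b, rfl⟩
  have hker : LinearMap.ker f = (maximalIdeal B).restrictScalars A := by
    ext x
    rw [LinearMap.mem_ker, Submodule.restrictScalars_mem]
    show (maximalIdeal (B ⧸ q')).mkQ (Ideal.Quotient.mk q' x) = 0 ↔ _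
    rw [Submodule.mkQ_apply, Submodule.Quotient.mk_eq_zero, mem_maximalIdeal, mem_maximalIdeal,
      mem_nonunits_iff, mem_nonunits_iff, not_iff_not]
    constructor
    · intro h
      haveI : IsLocalHom (Ideal.Quotient.mk q') :=
        IsLocalHom.of_surjective _ Ideal.Quotient.mk_surjective
      exact isUnit_of_map_unit (Ideal.Quotient.mk q') x h
    · intro h
      exact h.map _
  rw [← (f.quotKerEquivOfSurjective hf).length_eq,
    ← (Submodule.Quotient.restrictScalarsEquiv A (maximalIdeal B)).length_eq]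
  exact (Submodule.quotEquivOfEq _ _ hker).length_eq

end Len

section Bridge
variable {A B : Type u} [CommRing A] [IsNoetherianRing A] [IsLocalRing A] [CommRing B]
  [IsLocalRing B] [Algebra A B] [Module.Finite A B]

theorem bridge_aux (q : Ideal A) [q.IsPrime] (q' : Ideal B) [q'.IsPrime] [q'.LiesOver q]
    (hdimq : ringKrullDim (A ⧸ q) = 1) (d : ℕ)
    (hd : Module.length A (B ⧸ maximalIdeal B) = d)
    (L₁ : Type u) [CommRing L₁] [IsLocalRing L₁] [Algebra (Localization.AtPrime q) L₁]
    [IsLocalHom (algebraMap (Localization.AtPrime q) L₁)]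
    (j : L₁ ≃+* Localization.AtPrime q')
    (hj : ∀ x : A, j (algebraMap (Localization.AtPrime q) L₁ (algebraMap A _ x)) =
      algebraMap B (Localization.AtPrime q') (algebraMap A B x))
    (θ : ResidueField L₁) (hθ : θ ≠ 0) :
    ordFrac (A ⧸ q) q.ResidueField (Algebra.norm q.ResidueField θ) =
      (d : ℤ) * ordFrac (B ⧸ q') q'.ResidueField (ResidueField.mapEquiv j θ) := by
  classical
  haveI : IsLocalRing (A ⧸ q) := IsLocalRing.of_surjective' _ Ideal.Quotient.mk_surjective
  haveI : IsLocalRing (B ⧸ q') := IsLocalRing.of_surjective' _ Ideal.Quotient.mk_surjective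
  let κj : ResidueField L₁ ≃+* q'.ResidueField := ResidueField.mapEquiv j
  letI algKL' : Algebra q.ResidueField q'.ResidueField :=
    (κj.toRingHom.comp (algebraMap q.ResidueField (ResidueField L₁))).toAlgebra
  let e : ResidueField L₁ ≃ₐ[q.ResidueField] q'.ResidueField :=
    { κj with commutes' := fun _ => rfl }
  have hnorm : Algebra.norm q.ResidueField θ = Algebra.norm q.ResidueField (κj θ) :=
    (Algebra.norm_eq_of_algEquiv e θ).symm
  rw [hnorm]
  -- the quotient domains
  have hinj : Function.Injective (algebraMap (A ⧸ q) (B ⧸ q')) :=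
    FaithfulSMul.algebraMap_injective _ _
  haveI : Module.Finite (A ⧸ q) (B ⧸ q') := Module.Finite.of_restrictScalars_finite A _ _
  letI algAqL' : Algebra (A ⧸ q) q'.ResidueField :=
    ((algebraMap (B ⧸ q') q'.ResidueField).comp (algebraMap (A ⧸ q) (B ⧸ q'))).toAlgebra
  haveI : IsScalarTower (A ⧸ q) (B ⧸ q') q'.ResidueField :=
    IsScalarTower.of_algebraMap_eq (fun x => rfl)
  haveI : IsScalarTower (A ⧸ q) q.ResidueField q'.ResidueField := by
    apply IsScalarTower.of_algebraMap_eq
    intro x
    obtain ⟨x, rfl⟩ := Ideal.Quotient.mk_surjective x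
    show algebraMap (B ⧸ q') q'.ResidueField
        (algebraMap (A ⧸ q) (B ⧸ q') (Ideal.Quotient.mk q x)) =
      κj (algebraMap q.ResidueField (ResidueField L₁)
        (algebraMap (A ⧸ q) q.ResidueField (Ideal.Quotient.mk q x)))
    rw [Ideal.Quotient.algebraMap_mk_of_liesOver, Ideal.algebraMap_quotient_residueField_mk,
      Ideal.algebraMap_quotient_residueField_mk]
    rw [IsScalarTower.algebraMap_apply A (Localization.AtPrime q) q.ResidueField,
      IsScalarTower.algebraMap_apply B (Localization.AtPrime q') q'.ResidueField]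
    rw [ResidueField.algebraMap_eq, ResidueField.algebraMap_eq]
    show _ = κj (ResidueField.map (algebraMap (Localization.AtPrime q) L₁) _)
    rw [ResidueField.map_residue]
    show _ = residue _ (j _)
    rw [hj]
  haveI : Algebra.IsIntegral (A ⧸ q) (B ⧸ q') := Algebra.IsIntegral.of_finite _ _
  haveI : FaithfulSMul (A ⧸ q) (B ⧸ q') := (faithfulSMul_iff_algebraMap_injective _ _).mpr hinj
  haveI : Algebra.IsAlgebraic (A ⧸ q) (B ⧸ q') := Algebra.IsIntegral.isAlgebraic
  haveI : FiniteDimensional q.ResidueField q'.ResidueField :=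
    Module.Finite.of_isLocalization (A ⧸ q) (B ⧸ q') (nonZeroDivisors (A ⧸ q))
  haveI : IsLocalization.AtPrime (B ⧸ q') (maximalIdeal (B ⧸ q')) := by
    apply IsLocalization.of_le_isUnit
    intro x hx
    by_contra hnu
    exact hx ((mem_maximalIdeal x).2 hnu)
  have hbij : ∀ M : Ideal (B ⧸ q'), M.IsMaximal → ∃! i : Unit, maximalIdeal (B ⧸ q') = M := by
    intro M hM
    exact ⟨(), (IsLocalRing.eq_maximalIdeal hM).symm, fun _ _ => rfl⟩
  have key := Groth.Agent.Lib.Helper18.NormOrd.ordFrac_norm_eq_sum (A ⧸ q) hdimq (B ⧸ q') hinj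
    q.ResidueField q'.ResidueField (ι := Unit) (fun _ => maximalIdeal (B ⧸ q')) hbij (fun _ => B ⧸ q') (fun _ => d)
    (fun _ => by rw [length_quot_quot q q', hd]) (κj θ)
    (by rw [Ne, map_eq_zero_iff κj κj.injective]; exact hθ)
  rw [key, Finset.univ_unique, Finset.sum_singleton]


theorem Pres.theta_ne_zero {L : Type*} [CommRing L] [IsLocalRing L] {x₁ x₂ : L}
    (P : Pres L x₁ x₂) : P.theta ≠ 0 := by
  unfold Pres.theta Pres.base
  apply pow_ne_zero
  apply mul_ne_zero (mul_ne_zero _ _) _
  · exact pow_ne_zero _ (neg_ne_zero.2 one_ne_zero)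
  · exact pow_ne_zero _ (Pres.residue_unit_ne_zero _)
  · exact inv_ne_zero (pow_ne_zero _ (Pres.residue_unit_ne_zero _))

theorem bridge (q : Ideal A) [q.IsPrime] (q' : Ideal B) [q'.IsPrime] [q'.LiesOver q]
    (hdimq : ringKrullDim (A ⧸ q) = 1) (d : ℕ)
    (hd : Module.length A (B ⧸ maximalIdeal B) = d)
    (L₁ : Type u) [CommRing L₁] [IsLocalRing L₁] [Algebra (Localization.AtPrime q) L₁]
    [IsLocalHom (algebraMap (Localization.AtPrime q) L₁)] [Algebra B L₁]
    [IsLocalization.AtPrime L₁ q'] [Ring.KrullDimLE 1 (Localization.AtPrime q')]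
    (hcomp : ∀ x : A, algebraMap (Localization.AtPrime q) L₁ (algebraMap A _ x) =
      algebraMap B L₁ (algebraMap A B x))
    {a b : A}
    (P₁ : Pres L₁ (algebraMap (Localization.AtPrime q) L₁ (algebraMap A _ a))
      (algebraMap (Localization.AtPrime q) L₁ (algebraMap A _ b)))
    (P₂ : Pres (Localization.AtPrime q') (algebraMap B _ (algebraMap A B a))
      (algebraMap B _ (algebraMap A B b))) :
    ordFrac (A ⧸ q) q.ResidueField (Algebra.norm q.ResidueField P₁.theta) =
      (d : ℤ) * ordFrac (B ⧸ q') q'.ResidueField P₂.theta := by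
  haveI : IsNoetherianRing B := IsNoetherianRing.of_finite A B
  haveI : IsNoetherianRing (Localization.AtPrime q') :=
    IsLocalization.isNoetherianRing q'.primeCompl _ inferInstance
  let j₀ : L₁ ≃ₐ[B] Localization.AtPrime q' :=
    IsLocalization.algEquiv q'.primeCompl L₁ (Localization.AtPrime q')
  let j : L₁ ≃+* Localization.AtPrime q' := j₀.toRingEquiv
  have hj : ∀ x : A, j (algebraMap (Localization.AtPrime q) L₁ (algebraMap A _ x)) =
      algebraMap B (Localization.AtPrime q') (algebraMap A B x) := by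
    intro x
    rw [hcomp]
    exact j₀.commutes _
  have h := bridge_aux q q' hdimq d hd L₁ j hj P₁.theta (Pres.theta_ne_zero P₁)
  rw [h]
  congr 2
  rw [← Pres.mapEquiv_theta j P₁, ← Pres.cast_theta (P₁.mapEquiv j) (hj a) (hj b)]
  exact Pres.theta_eq _ _


/-- A presentation at `L₁` transports to the localization of `B` at the prime below. -/
theorem bridge_nonempty (q : Ideal A) [q.IsPrime] (q' : Ideal B) [q'.IsPrime]
    (L₁ : Type u) [CommRing L₁] [Algebra (Localization.AtPrime q) L₁] [Algebra B L₁]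
    [IsLocalization.AtPrime L₁ q']
    (hcomp : ∀ x : A, algebraMap (Localization.AtPrime q) L₁ (algebraMap A _ x) =
      algebraMap B L₁ (algebraMap A B x))
    {a b : A}
    (P₁ : Pres L₁ (algebraMap (Localization.AtPrime q) L₁ (algebraMap A _ a))
      (algebraMap (Localization.AtPrime q) L₁ (algebraMap A _ b))) :
    Nonempty (Pres (Localization.AtPrime q') (algebraMap B _ (algebraMap A B a))
      (algebraMap B _ (algebraMap A B b))) := by
  let j₀ : L₁ ≃ₐ[B] Localization.AtPrime q' :=
    IsLocalization.algEquiv q'.primeCompl L₁ (Localization.AtPrime q')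
  let j : L₁ ≃+* Localization.AtPrime q' := j₀.toRingEquiv
  have hj : ∀ x : A, j (algebraMap (Localization.AtPrime q) L₁ (algebraMap A _ x)) =
      algebraMap B (Localization.AtPrime q') (algebraMap A B x) := by
    intro x
    rw [hcomp]
    exact j₀.commutes _
  exact ⟨(P₁.mapEquiv j).cast (hj a) (hj b)⟩

end Bridge
end Groth.Agent.Lib.Helper18.Key
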