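import Mathlib

/-!
# Lifting integral elements of the fraction ring of `A_q` to integral elements of the fraction
ring of `A`, up to a unit of `A_q`
-/

set_option autoImplicit false
universe u

namespace Groth.Agent.Lib.Helper18.Key

open Polynomial

variable {A : Type u} [CommRing A] (q : Ideal A) [q.IsPrime]
variable {Q : Type u} [CommRing Q] [Algebra A Q] [IsFractionRing A Q]
variable {Q' : Type u} [CommRing Q'] [Algebra (Localization.AtPrime q) Q']
  [IsFractionRing (Localization.AtPrime q) Q'] [Algebra A Q']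
  [IsScalarTower A (Localization.AtPrime q) Q']
variable (ρ : Q →ₐ[A] Q')

include ρ in
/-- The kernel of `Frac A → Frac A_q` consists of elements killed by an element outside `q`. -/
theorem exists_smul_eq_zero_of_map_eq_zero {z : Q} (hz : ρ z = 0) :
    ∃ s : A, s ∉ q ∧ s • z = 0 := by
  obtain ⟨⟨y, d⟩, hyd⟩ := IsLocalization.surj (nonZeroDivisors A) z
  have h1 : algebraMap A Q' y = 0 := by
    have := congrArg ρ hyd
    rw [map_mul, hz, zero_mul, AlgHom.commutes] at this
    exact this.symm
  rw [IsScalarTower.algebraMap_apply A (Localization.AtPrime q) Q'] at h1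
  have h2 : algebraMap A (Localization.AtPrime q) y = 0 :=
    IsFractionRing.injective (Localization.AtPrime q) Q' (by rw [h1, map_zero])
  obtain ⟨s, hs⟩ := (IsLocalization.map_eq_zero_iff q.primeCompl _ _).1 h2
  refine ⟨s, s.2, ?_⟩
  have hd : IsUnit (algebraMap A Q d) := IsLocalization.map_units Q d
  have h3 : (s : A) • z * algebraMap A Q d = 0 := by
    rw [smul_mul_assoc, hyd, Algebra.smul_def, ← map_mul, hs, map_zero]
  exact (hd.mul_left_eq_zero).1 h3

include ρ in
/-- Integral elements of `Frac A_q` with a power of `t` as denominator lift, up to a unit of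
`A_q`, to integral elements of `Frac A`. -/
theorem exists_lift_integral [Nontrivial Q'] {t : A} (ht : t ∈ nonZeroDivisors A) (c : Q')
    (n : ℕ) (hc : ∃ r : Localization.AtPrime q,
      algebraMap A Q' t ^ n * c = algebraMap (Localization.AtPrime q) Q' r)
    (hint : IsIntegral (Localization.AtPrime q) c) :
    ∃ z : Q, IsIntegral A z ∧ ∃ σ : A, σ ∉ q ∧ ρ z = algebraMap A Q' σ * c := by
  obtain ⟨r, hr⟩ := hc
  obtain ⟨⟨y, s⟩, hys⟩ := IsLocalization.surj q.primeCompl r
  -- `z₀ = y / t^n`
  have htu : IsUnit (algebraMap A Q (t ^ n)) :=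
    IsLocalization.map_units Q (⟨t ^ n, pow_mem ht n⟩ : nonZeroDivisors A)
  set z₀ : Q := algebraMap A Q y * ((htu.unit⁻¹ : Qˣ) : Q) with hz₀
  have hz₀' : algebraMap A Q (t ^ n) * z₀ = algebraMap A Q y := by
    rw [hz₀, mul_comm, mul_assoc]
    have : ((htu.unit⁻¹ : Qˣ) : Q) * algebraMap A Q (t ^ n) = 1 := by
      have := htu.unit.inv_mul
      rwa [IsUnit.unit_spec] at this
    rw [this, mul_one]
  have hρz₀ : ρ z₀ = algebraMap A Q' s * c := by
    have h1 : algebraMap A Q' (t ^ n) * ρ z₀ = algebraMap A Q' (t ^ n) * (algebraMap A Q' s * c) := by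
      have := congrArg ρ hz₀'
      rw [map_mul, AlgHom.commutes, AlgHom.commutes] at this
      rw [this, map_pow, mul_left_comm, hr,
        IsScalarTower.algebraMap_apply A (Localization.AtPrime q) Q' s,
        IsScalarTower.algebraMap_apply A (Localization.AtPrime q) Q' y, ← map_mul, ← hys, mul_comm]
    have htu' : IsUnit (algebraMap A Q' (t ^ n)) := by
      have := htu.map ρ
      rwa [AlgHom.commutes] at this
    exact (htu'.mul_right_inj).1 h1
  -- integrality over `A` after scaling
  have hint' : IsIntegral (Localization.AtPrime q) (algebraMap A Q' s * c) := by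
    rw [IsScalarTower.algebraMap_apply A (Localization.AtPrime q) Q' s]
    exact IsIntegral.mul isIntegral_algebraMap hint
  obtain ⟨m, hm⟩ := IsIntegral.exists_multiple_integral_of_isLocalization q.primeCompl
    (algebraMap A Q' s * c) hint'
  obtain ⟨p, hpm, hp0⟩ := hm
  set z₁ : Q := (m : A) • z₀ with hz₁
  have hρz₁ : ρ z₁ = m • (algebraMap A Q' s * c) := by
    rw [hz₁, map_smul, hρz₀]
    rfl
  have hw : ρ (aeval z₁ p) = 0 := by
    rw [← Polynomial.aeval_algHom_apply, hρz₁]
    exact hp0
  obtain ⟨σ₂, hσ₂, hσ₂w⟩ := exists_smul_eq_zero_of_map_eq_zero q ρ hw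
  have hdeg : p.natDegree ≠ 0 := by
    intro h0
    have hp1 : p = 1 := by
      have := Polynomial.eq_C_of_natDegree_eq_zero h0
      rw [this, ← h0]
      have hlead : p.coeff p.natDegree = 1 := hpm
      rw [hlead, map_one]
    rw [hp1] at hp0
    simp at hp0
  refine ⟨algebraMap A Q σ₂ * z₁, ?_, σ₂ * m * s, ?_, ?_⟩
  · refine ⟨p.scaleRoots σ₂, (Polynomial.monic_scaleRoots_iff σ₂).2 hpm, ?_⟩
    have h := Polynomial.scaleRoots_eval₂_mul (p := p) (algebraMap A Q) z₁ σ₂
    rw [h]
    obtain ⟨d, hd⟩ := Nat.exists_eq_succ_of_ne_zero hdeg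
    have h2 : algebraMap A Q σ₂ * Polynomial.eval₂ (algebraMap A Q) z₁ p = 0 := by
      have := hσ₂w
      rwa [Algebra.smul_def, Polynomial.aeval_def] at this
    rw [hd, pow_succ, mul_assoc, h2, mul_zero]
  · intro hmem
    rcases Ideal.IsPrime.mem_or_mem ‹_› hmem with h | h
    · rcases Ideal.IsPrime.mem_or_mem ‹_› h with h' | h'
      · exact hσ₂ h'
      · exact m.2 h'
    · exact s.2 h
  · rw [map_mul, AlgHom.commutes, hρz₁, map_mul, map_mul, Submonoid.smul_def, Algebra.smul_def]
    ring

end Groth.Agent.Lib.Helper18.Key
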