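import Mathlib

/-!
# The local subalgebra `A + σ B₀` of an integral extension `B₀` of a local ring `A`
-/

set_option autoImplicit false
universe u

namespace Groth.Agent.Lib.Helper18.Key

open IsLocalRing

variable {A : Type u} [CommRing A] {Q : Type u} [CommRing Q] [Algebra A Q]

/-- The subalgebra `A + σ B₀`. -/
def plusSub (σ : A) (B₀ : Subalgebra A Q) : Subalgebra A Q where
  carrier := {x | ∃ α : A, ∃ b ∈ B₀, x = algebraMap A Q α + σ • b}
  mul_mem' := by
    rintro _ _ ⟨α, b, hb, rfl⟩ ⟨α', b', hb', rfl⟩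
    refine ⟨α * α', α • b' + α' • b + σ • (b * b'),
      B₀.add_mem (B₀.add_mem (B₀.smul_mem hb' _) (B₀.smul_mem hb _))
        (B₀.smul_mem (B₀.mul_mem hb hb') _), ?_⟩
    simp only [Algebra.smul_def, map_mul]
    ring
  one_mem' := ⟨1, 0, B₀.zero_mem, by simp⟩
  add_mem' := by
    rintro _ _ ⟨α, b, hb, rfl⟩ ⟨α', b', hb', rfl⟩
    refine ⟨α + α', b + b', B₀.add_mem hb hb', ?_⟩
    simp only [Algebra.smul_def, map_add]
    ring
  zero_mem' := ⟨0, 0, B₀.zero_mem, by simp⟩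
  algebraMap_mem' := fun r => ⟨r, 0, B₀.zero_mem, by simp⟩

theorem mem_plusSub {σ : A} {B₀ : Subalgebra A Q} {x : Q} :
    x ∈ plusSub σ B₀ ↔ ∃ α : A, ∃ b ∈ B₀, x = algebraMap A Q α + σ • b := Iff.rfl

theorem plusSub_le (σ : A) (B₀ : Subalgebra A Q) : plusSub σ B₀ ≤ B₀ := by
  rintro _ ⟨α, b, hb, rfl⟩
  exact B₀.add_mem (B₀.algebraMap_mem _) (B₀.smul_mem hb _)

theorem smul_mem_plusSub (σ : A) {B₀ : Subalgebra A Q} {b : Q} (hb : b ∈ B₀) :
    σ • b ∈ plusSub σ B₀ := ⟨0, b, hb, by simp⟩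

theorem finite_plusSub [IsNoetherianRing A] (σ : A) (B₀ : Subalgebra A Q) [Module.Finite A B₀] :
    Module.Finite A (plusSub σ B₀) := by
  haveI : IsNoetherian A B₀ := isNoetherian_of_isNoetherianRing_of_finite A B₀
  exact Module.Finite.of_injective (Subalgebra.inclusion (plusSub_le σ B₀)).toLinearMap
    (Subalgebra.inclusion_injective (plusSub_le σ B₀))

section Local

variable [IsLocalRing A] {σ : A} (hσ : σ ∈ maximalIdeal A) (B₀ : Subalgebra A Q)
  [Algebra.IsIntegral A B₀] [Nontrivial Q]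

include hσ

/-- Elements of `𝔪 B₀` are nonunits of `B₀`. -/
theorem not_isUnit_of_mem_max {x : B₀} (α : A) (b : B₀) (hα : α ∈ maximalIdeal A)
    (hx : x = algebraMap A B₀ α + σ • b) : ¬ IsUnit x := by
  intro hu
  obtain ⟨M₀, hM₀⟩ := Ideal.exists_maximal B₀
  haveI := hM₀
  have hcomap : (M₀.comap (algebraMap A B₀)).IsMaximal :=
    Ideal.isMaximal_comap_of_isIntegral_of_isMaximal M₀
  have heq : M₀.comap (algebraMap A B₀) = maximalIdeal A := IsLocalRing.eq_maximalIdeal hcomap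
  have h1 : algebraMap A B₀ α ∈ M₀ := by
    have : α ∈ M₀.comap (algebraMap A B₀) := heq ▸ hα
    exact this
  have h2 : σ • b ∈ M₀ := by
    have : σ ∈ M₀.comap (algebraMap A B₀) := heq ▸ hσ
    rw [Algebra.smul_def]
    exact M₀.mul_mem_right _ this
  have h3 : x ∈ M₀ := by
    rw [hx]
    exact M₀.add_mem h1 h2
  exact hM₀.ne_top (Ideal.eq_top_of_isUnit_mem _ h3 hu)

/-- `1 + σ b` is a unit of `B₀`. -/
theorem isUnit_one_add_smul (b : B₀) : IsUnit (1 + σ • b) := by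
  by_contra hnu
  obtain ⟨M₀, hM₀, hmem⟩ := exists_max_ideal_of_mem_nonunits hnu
  haveI := hM₀
  have hcomap : (M₀.comap (algebraMap A B₀)).IsMaximal :=
    Ideal.isMaximal_comap_of_isIntegral_of_isMaximal M₀
  have heq : M₀.comap (algebraMap A B₀) = maximalIdeal A := IsLocalRing.eq_maximalIdeal hcomap
  have h2 : σ • b ∈ M₀ := by
    have : σ ∈ M₀.comap (algebraMap A B₀) := heq ▸ hσ
    rw [Algebra.smul_def]
    exact M₀.mul_mem_right _ this
  have h3 : (1 : B₀) ∈ M₀ := by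
    have := M₀.sub_mem hmem h2
    simpa using this
  exact hM₀.ne_top ((Ideal.eq_top_iff_one _).2 h3)

/-- `1 + σ b` is a unit of `A + σ B₀`. -/
theorem isUnit_one_add_smul_plusSub (b : Q) (hb : b ∈ B₀) :
    IsUnit (⟨1 + σ • b, (plusSub σ B₀).add_mem (plusSub σ B₀).one_mem
      (smul_mem_plusSub σ hb)⟩ : plusSub σ B₀) := by
  obtain ⟨u, hu⟩ := isUnit_one_add_smul hσ B₀ ⟨b, hb⟩
  -- the inverse lies in `A + σ B₀`
  have hinv : ((u⁻¹ : B₀ˣ) : B₀) = 1 - σ • (⟨b, hb⟩ * ((u⁻¹ : B₀ˣ) : B₀)) := by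
    have h1 : (u : B₀) * ((u⁻¹ : B₀ˣ) : B₀) = 1 := u.mul_inv
    rw [hu, add_mul, one_mul, smul_mul_assoc] at h1
    exact eq_sub_of_add_eq h1
  have hmem : (((u⁻¹ : B₀ˣ) : B₀) : Q) ∈ plusSub σ B₀ := by
    refine ⟨1, -((⟨b, hb⟩ * ((u⁻¹ : B₀ˣ) : B₀) : B₀) : Q), B₀.neg_mem (Subtype.mem _), ?_⟩
    have := congrArg (fun z : B₀ => (z : Q)) hinv
    simp only [Subalgebra.coe_sub, Subalgebra.coe_one, Subalgebra.coe_smul] at this
    rw [this, map_one, smul_neg]
    ring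
  rw [isUnit_iff_exists_inv]
  refine ⟨⟨_, hmem⟩, ?_⟩
  apply Subtype.ext
  have h1 : (u : B₀) * ((u⁻¹ : B₀ˣ) : B₀) = 1 := u.mul_inv
  rw [hu] at h1
  have := congrArg (fun z : B₀ => (z : Q)) h1
  simpa using this

/-- `A + σ B₀` is a local ring. -/
theorem isLocalRing_plusSub : IsLocalRing (plusSub σ B₀) := by
  haveI : Nontrivial (plusSub σ B₀) := inferInstance
  -- characterization of nonunits
  have hchar : ∀ x : plusSub σ B₀, x ∈ nonunits (plusSub σ B₀) ↔
      ∃ α ∈ maximalIdeal A, ∃ b ∈ B₀, (x : Q) = algebraMap A Q α + σ • b := by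
    intro x
    constructor
    · intro hx
      obtain ⟨α, b, hb, hxe⟩ := x.2
      refine ⟨α, ?_, b, hb, hxe⟩
      by_contra hα
      have hαu : IsUnit α := by
        by_contra h
        exact hα ((mem_maximalIdeal _).2 h)
      obtain ⟨v, rfl⟩ := hαu
      apply hx
      have hb' : ((v⁻¹ : Aˣ) : A) • b ∈ B₀ := B₀.smul_mem hb _
      have h1 := isUnit_one_add_smul_plusSub hσ B₀ _ hb'
      have h2 : IsUnit (algebraMap A (plusSub σ B₀) (v : A)) := v.isUnit.map _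
      have h3 : x = algebraMap A (plusSub σ B₀) (v : A) *
          ⟨1 + σ • (((v⁻¹ : Aˣ) : A) • b), (plusSub σ B₀).add_mem (plusSub σ B₀).one_mem
            (smul_mem_plusSub σ hb')⟩ := by
        apply Subtype.ext
        rw [hxe]
        show _ = algebraMap A Q (v : A) * (1 + σ • (((v⁻¹ : Aˣ) : A) • b))
        have hvv : algebraMap A Q (v : A) * algebraMap A Q ((v⁻¹ : Aˣ) : A) = 1 := by
          rw [← map_mul, Units.mul_inv, map_one]
        simp only [Algebra.smul_def]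
        linear_combination (-(algebraMap A Q σ * b)) * hvv
      rw [h3]
      exact h2.mul h1
    · rintro ⟨α, hα, b, hb, hxe⟩ hu
      have hu' : IsUnit (Subalgebra.inclusion (plusSub_le σ B₀) x) := hu.map _
      refine not_isUnit_of_mem_max hσ B₀ α ⟨b, hb⟩ hα ?_ hu'
      apply Subtype.ext
      exact hxe
  apply IsLocalRing.of_nonunits_add
  intro x y hx hy
  rw [hchar] at hx hy ⊢
  obtain ⟨α, hα, b, hb, hxe⟩ := hx
  obtain ⟨α', hα', b', hb', hye⟩ := hy
  refine ⟨α + α', Ideal.add_mem _ hα hα', b + b', B₀.add_mem hb hb', ?_⟩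
  rw [Subalgebra.coe_add, hxe, hye, map_add, smul_add]
  ring

end Local

end Groth.Agent.Lib.Helper18.Key
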