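import Mathlib
import Groth.Agent.Lib.Helper18.Tame.MonoGe
import Groth.Agent.Lib.Helper18.Key.Basic
import Groth.Agent.Lib.Helper18.Key.Lift
import Groth.Agent.Lib.Helper18.Key.LocalSub

/-!
# A finite local extension of `A` on which `a, b` become monomial at every prime through `ab`
-/

set_option autoImplicit false
set_option maxHeartbeats 800000
universe u

namespace Groth.Agent.Lib.Helper18.Key

open IsLocalRing Groth.Agent.Lib.Helper18.Tame

section Rho

variable {A : Type u} [CommRing A]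

theorem map_mem_nonZeroDivisors' {t : A} (ht : t ∈ nonZeroDivisors A) (q : Ideal A) [q.IsPrime] :
    algebraMap A (Localization.AtPrime q) t ∈ nonZeroDivisors (Localization.AtPrime q) :=
  IsLocalization.map_nonZeroDivisors_le q.primeCompl (Localization.AtPrime q)
    (Submonoid.mem_map_of_mem _ ht)

theorem isUnit_algebraMap_fractionRing {t : A} (ht : t ∈ nonZeroDivisors A) (q : Ideal A)
    [q.IsPrime] : IsUnit (algebraMap A (FractionRing (Localization.AtPrime q)) t) := by
  rw [IsScalarTower.algebraMap_apply A (Localization.AtPrime q) _]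
  exact IsLocalization.map_units _ (⟨algebraMap A (Localization.AtPrime q) t,
    map_mem_nonZeroDivisors' ht q⟩ : nonZeroDivisors (Localization.AtPrime q))

/-- The canonical map `Frac A → Frac A_q`. -/
noncomputable def rho (q : Ideal A) [q.IsPrime] :
    FractionRing A →ₐ[A] FractionRing (Localization.AtPrime q) :=
  IsLocalization.liftAlgHom (M := nonZeroDivisors A)
    (f := Algebra.ofId A (FractionRing (Localization.AtPrime q)))
    (fun y => isUnit_algebraMap_fractionRing y.2 q)

end Rho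

/-- `x` is a unit times a power of `π` in the localization of `C` at `𝔫`. -/
def MonoAt {R Q' : Type u} [CommRing R] [CommRing Q'] [Algebra R Q'] (C : Subalgebra R Q')
    (𝔫 : MaximalSpectrum C) (π : Localization.AtPrime 𝔫.asIdeal) (x : Q') : Prop :=
  ∃ (hx : x ∈ C) (v : (Localization.AtPrime 𝔫.asIdeal)ˣ) (e : ℕ),
    algebraMap C (Localization.AtPrime 𝔫.asIdeal) ⟨x, hx⟩ = v * π ^ e

variable {A : Type u} [CommRing A] [IsNoetherianRing A] [IsLocalRing A]

/-- Prime avoidance: an element of the maximal ideal outside finitely many non-maximal primes. -/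
theorem exists_mem_max_notMem (F : Finset (PrimeSpectrum A))
    (hF : ∀ q ∈ F, q.asIdeal ≠ maximalIdeal A) :
    ∃ σ₀ ∈ maximalIdeal A, ∀ q ∈ F, σ₀ ∉ q.asIdeal := by
  by_contra hcon
  push_neg at hcon
  have hsub : ((maximalIdeal A : Ideal A) : Set A) ⊆ ⋃ q ∈ (F : Set (PrimeSpectrum A)),
      ((q.asIdeal : Ideal A) : Set A) := by
    intro x hx
    obtain ⟨q, hq, hxq⟩ := hcon x hx
    exact Set.mem_biUnion hq hxq
  obtain ⟨q, hq, hle⟩ := (Ideal.subset_union_prime (closedPoint A) (closedPoint A)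
    (fun i _ _ _ => i.isPrime)).1 hsub
  exact hF q hq (le_antisymm (le_maximalIdeal q.isPrime.ne_top) hle)

/-- The data at one prime: finitely many integral elements of `Frac A` whose images generate,
up to units, a finite extension of `A_q` after which `a, b` stay monomial. -/
theorem exists_local_data (hA : ringKrullDim A ≤ 2) {a b : A} (ha : a ∈ nonZeroDivisors A)
    (hb : b ∈ nonZeroDivisors A) (q : PrimeSpectrum A)
    (hq : a * b ∈ q.asIdeal ∧ q.asIdeal ≠ maximalIdeal A) :
    ∃ Z : Finset (FractionRing A), (∀ z ∈ Z, IsIntegral A z) ∧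
      ∀ σ₀ : A, σ₀ ∉ q.asIdeal →
      ∀ C'' : Subalgebra (Localization.AtPrime q.asIdeal)
        (FractionRing (Localization.AtPrime q.asIdeal)),
      (∀ z ∈ Z, rho q.asIdeal (σ₀ • z) ∈ C'') →
      ∀ 𝔫 : MaximalSpectrum C'', ∃ π : Localization.AtPrime 𝔫.asIdeal,
        π ∈ nonZeroDivisors (Localization.AtPrime 𝔫.asIdeal) ∧
        MonoAt C'' 𝔫 π (algebraMap A _ a) ∧ MonoAt C'' 𝔫 π (algebraMap A _ b) := by
  classical
  have hab : a * b ∈ nonZeroDivisors A := mul_mem ha hb
  have hR : ringKrullDim (Localization.AtPrime q.asIdeal) ≤ 1 :=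
    ringKrullDim_atPrime_le_one hA hab q.asIdeal hq.1 hq.2
  haveI : IsNoetherianRing (Localization.AtPrime q.asIdeal) :=
    IsLocalization.isNoetherianRing q.asIdeal.primeCompl _ inferInstance
  set T : Finset (FractionRing (Localization.AtPrime q.asIdeal)) :=
    {algebraMap A _ a, algebraMap A _ b} with hTdef
  have hT : ∀ x ∈ T, x ∈ (⊥ : Subalgebra (Localization.AtPrime q.asIdeal)
      (FractionRing (Localization.AtPrime q.asIdeal))) ∧ IsUnit x := by
    intro x hx
    rw [hTdef, Finset.mem_insert, Finset.mem_singleton] at hx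
    rcases hx with rfl | rfl
    · refine ⟨?_, isUnit_algebraMap_fractionRing ha q.asIdeal⟩
      rw [IsScalarTower.algebraMap_apply A (Localization.AtPrime q.asIdeal) _]
      exact Subalgebra.algebraMap_mem _ _
    · refine ⟨?_, isUnit_algebraMap_fractionRing hb q.asIdeal⟩
      rw [IsScalarTower.algebraMap_apply A (Localization.AtPrime q.asIdeal) _]
      exact Subalgebra.algebraMap_mem _ _
  obtain ⟨C', hCC', hfin, hpers⟩ := exists_finSub_local_monomial_ge hR ⊥ T hT
  haveI := hfin
  have hfg : (Subalgebra.toSubmodule C').FG := Module.Finite.iff_fg.1 inferInstance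
  obtain ⟨G, hG⟩ := Subalgebra.fg_of_fg_toSubmodule hfg
  obtain ⟨-, -, n, hn⟩ := isFinExt hR C'
  have htm : algebraMap A (Localization.AtPrime q.asIdeal) (a * b) ∈
      maximalIdeal (Localization.AtPrime q.asIdeal) := by
    rw [← Localization.AtPrime.map_eq_maximalIdeal]
    exact Ideal.mem_map_of_mem _ hq.1
  have hlift : ∀ c : FractionRing (Localization.AtPrime q.asIdeal),
      ∃ (z : FractionRing A) (σ : A), c ∈ G → (IsIntegral A z ∧ σ ∉ q.asIdeal ∧
        rho q.asIdeal z = algebraMap A _ σ * c) := by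
    intro c
    by_cases hc : c ∈ G
    · have hcC : c ∈ C' := by
        rw [← hG]
        exact Algebra.subset_adjoin hc
      have hint : IsIntegral (Localization.AtPrime q.asIdeal) c := IsIntegral.of_mem_of_fg C' hfg c hcC
      obtain ⟨r, hr⟩ := hn (algebraMap A (Localization.AtPrime q.asIdeal) (a * b) ^ n)
        (Ideal.pow_mem_pow htm n) ⟨c, hcC⟩
      have hr' : algebraMap A (FractionRing (Localization.AtPrime q.asIdeal)) (a * b) ^ n * c =
          algebraMap (Localization.AtPrime q.asIdeal) _ r := by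
        have := congrArg (fun z : C' => (z : FractionRing (Localization.AtPrime q.asIdeal))) hr
        simp only [Subalgebra.coe_smul, Subalgebra.coe_algebraMap] at this
        rw [IsScalarTower.algebraMap_apply A (Localization.AtPrime q.asIdeal) _, ← map_pow,
          ← Algebra.smul_def]
        exact this.symm
      obtain ⟨z, hz, σ, hσ, hρ⟩ := exists_lift_integral q.asIdeal (rho q.asIdeal) hab c n
        ⟨r, hr'⟩ hint
      exact ⟨z, σ, fun _ => ⟨hz, hσ, hρ⟩⟩
    · exact ⟨0, 0, fun h => absurd h hc⟩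
  choose z σ hzσ using hlift
  refine ⟨G.image z, ?_, ?_⟩
  · intro w hw
    obtain ⟨c, hc, rfl⟩ := Finset.mem_image.1 hw
    exact (hzσ c hc).1
  · intro σ₀ hσ₀ C'' hC'' 𝔫
    have hle : C' ≤ C'' := by
      rw [← hG]
      apply Algebra.adjoin_le
      intro c hc
      have hc' : c ∈ G := hc
      obtain ⟨-, hσc, hρ⟩ := hzσ c hc'
      have h1 := hC'' (z c) (Finset.mem_image_of_mem z hc')
      rw [map_smul, hρ, Algebra.smul_def, ← mul_assoc, ← map_mul,
        IsScalarTower.algebraMap_apply A (Localization.AtPrime q.asIdeal) _] at h1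
      have hu : IsUnit (algebraMap A (Localization.AtPrime q.asIdeal) (σ₀ * σ c)) :=
        IsLocalization.map_units _ (⟨σ₀ * σ c,
          q.asIdeal.primeCompl.mul_mem hσ₀ hσc⟩ : q.asIdeal.primeCompl)
      obtain ⟨u, hu'⟩ := hu
      have h2 := C''.smul_mem h1 ((u⁻¹ : (Localization.AtPrime q.asIdeal)ˣ) :
        Localization.AtPrime q.asIdeal)
      rw [Algebra.smul_def, ← mul_assoc, ← map_mul, ← hu', Units.inv_mul, map_one, one_mul] at h2
      exact h2
    obtain ⟨π, hπ, hx⟩ := hpers C'' hle 𝔫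
    have key : ∀ x ∈ T, MonoAt C'' 𝔫 π x := by
      intro x hxT
      obtain ⟨v, e, hv⟩ := hx x hxT
      exact ⟨hle (hCC' (hT x hxT).1), v, e, hv⟩
    exact ⟨π, hπ, key _ (by rw [hTdef]; exact Finset.mem_insert_self _ _),
      key _ (by rw [hTdef]; exact Finset.mem_insert_of_mem (Finset.mem_singleton_self _))⟩

/-- **Gluing.** A finite local subalgebra `B` of `Frac A` such that `a, b` are monomial at every
maximal ideal of every `A_q`-subalgebra of `Frac A_q` containing the image of `B`, for every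
prime `q ≠ 𝔪` through `ab`. -/
theorem exists_glue (hA : ringKrullDim A ≤ 2) {a b : A} (ha : a ∈ nonZeroDivisors A)
    (hb : b ∈ nonZeroDivisors A)
    (hfinS : {q : PrimeSpectrum A | a * b ∈ q.asIdeal ∧ q.asIdeal ≠ maximalIdeal A}.Finite) :
    ∃ B : Subalgebra A (FractionRing A), Module.Finite A B ∧ IsLocalRing B ∧
      ∀ (q : PrimeSpectrum A), a * b ∈ q.asIdeal ∧ q.asIdeal ≠ maximalIdeal A →
      ∀ C'' : Subalgebra (Localization.AtPrime q.asIdeal)
        (FractionRing (Localization.AtPrime q.asIdeal)),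
      (∀ z ∈ B, rho q.asIdeal z ∈ C'') →
      ∀ 𝔫 : MaximalSpectrum C'', ∃ π : Localization.AtPrime 𝔫.asIdeal,
        π ∈ nonZeroDivisors (Localization.AtPrime 𝔫.asIdeal) ∧
        MonoAt C'' 𝔫 π (algebraMap A _ a) ∧ MonoAt C'' 𝔫 π (algebraMap A _ b) := by
  classical
  set F : Finset (PrimeSpectrum A) := hfinS.toFinset with hFdef
  have hF : ∀ q, q ∈ F ↔ (a * b ∈ q.asIdeal ∧ q.asIdeal ≠ maximalIdeal A) := by
    intro q
    rw [hFdef, Set.Finite.mem_toFinset]
    rfl
  have hdata : ∀ q : PrimeSpectrum A, ∃ Z : Finset (FractionRing A),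
      (a * b ∈ q.asIdeal ∧ q.asIdeal ≠ maximalIdeal A) →
      ((∀ z ∈ Z, IsIntegral A z) ∧
      ∀ σ₀ : A, σ₀ ∉ q.asIdeal →
      ∀ C'' : Subalgebra (Localization.AtPrime q.asIdeal)
        (FractionRing (Localization.AtPrime q.asIdeal)),
      (∀ z ∈ Z, rho q.asIdeal (σ₀ • z) ∈ C'') →
      ∀ 𝔫 : MaximalSpectrum C'', ∃ π : Localization.AtPrime 𝔫.asIdeal,
        π ∈ nonZeroDivisors (Localization.AtPrime 𝔫.asIdeal) ∧
        MonoAt C'' 𝔫 π (algebraMap A _ a) ∧ MonoAt C'' 𝔫 π (algebraMap A _ b)) := by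
    intro q
    by_cases hq : a * b ∈ q.asIdeal ∧ q.asIdeal ≠ maximalIdeal A
    · obtain ⟨Z, h1, h2⟩ := exists_local_data hA ha hb q hq
      exact ⟨Z, fun _ => ⟨h1, h2⟩⟩
    · exact ⟨∅, fun h => absurd h hq⟩
  choose Z hZ using hdata
  set Z₀ : Finset (FractionRing A) := F.biUnion Z with hZ₀
  have hZ₀int : ∀ z ∈ (Z₀ : Set (FractionRing A)), IsIntegral A z := by
    intro z hz
    obtain ⟨q, hq, hzq⟩ := Finset.mem_biUnion.1 (Finset.mem_coe.1 hz)
    exact (hZ q ((hF q).1 hq)).1 z hzq
  set B₀ : Subalgebra A (FractionRing A) := Algebra.adjoin A (Z₀ : Set (FractionRing A)) with hB₀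
  have hB₀fg : (Subalgebra.toSubmodule B₀).FG :=
    fg_adjoin_of_finite (Finset.finite_toSet Z₀) hZ₀int
  haveI hB₀fin : Module.Finite A B₀ := Module.Finite.iff_fg.2 hB₀fg
  haveI : Algebra.IsIntegral A B₀ := Algebra.IsIntegral.of_finite A B₀
  obtain ⟨σ₀, hσ₀m, hσ₀⟩ := exists_mem_max_notMem F (fun q hq => ((hF q).1 hq).2)
  refine ⟨plusSub σ₀ B₀, finite_plusSub σ₀ B₀, isLocalRing_plusSub hσ₀m B₀, ?_⟩
  intro q hq C'' hC'' 𝔫
  refine (hZ q hq).2 σ₀ (hσ₀ q ((hF q).2 hq)) C'' ?_ 𝔫
  intro z hz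
  apply hC''
  apply smul_mem_plusSub
  rw [hB₀]
  apply Algebra.subset_adjoin
  exact Finset.mem_coe.2 (Finset.mem_biUnion.2 ⟨q, (hF q).2 hq, hz⟩)

end Groth.Agent.Lib.Helper18.Key
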