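import Mathlib
import Groth.Agent.Lib.Helper18.Key.Glue

/-!
# The subalgebra of `Frac A_q` generated by a subalgebra `B` of `Frac A` is the localization of `B`
-/

set_option autoImplicit false
set_option maxHeartbeats 800000
set_option linter.style.haveILetI false
set_option linter.unusedSectionVars false
universe u

namespace Groth.Agent.Lib.Helper18.Key

open IsLocalRing

variable {A : Type u} [CommRing A] (q : Ideal A) [q.IsPrime] (B : Subalgebra A (FractionRing A))

/-- The `A_q`-subalgebra of `Frac A_q` generated by the image of `B`. -/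
noncomputable def locSub :
    Subalgebra (Localization.AtPrime q) (FractionRing (Localization.AtPrime q)) :=
  Algebra.adjoin _ ((rho q) '' (B : Set (FractionRing A)))

theorem rho_mem_locSub {z : FractionRing A} (hz : z ∈ B) : rho q z ∈ locSub q B :=
  Algebra.subset_adjoin ⟨z, hz, rfl⟩

theorem exists_of_mem_locSub {x : FractionRing (Localization.AtPrime q)} (hx : x ∈ locSub q B) :
    ∃ z ∈ B, ∃ s : A, s ∉ q ∧
      algebraMap A (FractionRing (Localization.AtPrime q)) s * x = rho q z := by
  unfold locSub at hx
  induction hx using Algebra.adjoin_induction with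
  | mem x hx =>
    obtain ⟨z, hz, rfl⟩ := hx
    exact ⟨z, hz, 1, fun h => (Ideal.IsPrime.ne_top ‹_›) ((Ideal.eq_top_iff_one q).2 h),
      by rw [map_one, one_mul]⟩
  | algebraMap r =>
    obtain ⟨⟨y, s⟩, h⟩ := IsLocalization.surj q.primeCompl r
    refine ⟨algebraMap A _ y, Subalgebra.algebraMap_mem _ _, s, s.2, ?_⟩
    rw [AlgHom.commutes, IsScalarTower.algebraMap_apply A (Localization.AtPrime q)
      (FractionRing (Localization.AtPrime q)), ← map_mul, mul_comm, h,
      ← IsScalarTower.algebraMap_apply]
  | add x y _ _ hx hy =>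
    obtain ⟨z, hz, s, hs, h⟩ := hx
    obtain ⟨z', hz', s', hs', h'⟩ := hy
    refine ⟨s' • z + s • z', B.add_mem (B.smul_mem hz _) (B.smul_mem hz' _), s * s',
      fun hmem => (Ideal.IsPrime.mem_or_mem ‹_› hmem).elim hs hs', ?_⟩
    rw [map_add, map_smul, map_smul, ← h, ← h', Algebra.smul_def, Algebra.smul_def, map_mul]
    ring
  | mul x y _ _ hx hy =>
    obtain ⟨z, hz, s, hs, h⟩ := hx
    obtain ⟨z', hz', s', hs', h'⟩ := hy
    refine ⟨z * z', B.mul_mem hz hz', s * s',
      fun hmem => (Ideal.IsPrime.mem_or_mem ‹_› hmem).elim hs hs', ?_⟩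
    rw [map_mul, map_mul, ← h, ← h']
    ring

/-- The canonical map `B → locSub q B`. -/
noncomputable def toLocSub : B →+* locSub q B :=
  RingHom.codRestrict ((rho q).toRingHom.comp B.val.toRingHom) (locSub q B)
    (fun z => rho_mem_locSub q B z.2)

theorem toLocSub_coe (z : B) : ((toLocSub q B z : locSub q B) :
    FractionRing (Localization.AtPrime q)) = rho q (z : FractionRing A) := rfl

theorem toLocSub_algebraMap (x : A) :
    toLocSub q B (algebraMap A B x) = algebraMap (Localization.AtPrime q) (locSub q B)
      (algebraMap A (Localization.AtPrime q) x) := by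
  apply Subtype.ext
  rw [toLocSub_coe]
  show rho q (algebraMap A (FractionRing A) x) = algebraMap (Localization.AtPrime q)
    (FractionRing (Localization.AtPrime q)) (algebraMap A (Localization.AtPrime q) x)
  rw [AlgHom.commutes, ← IsScalarTower.algebraMap_apply]

/-- `locSub q B` is the localization of `B` at the image of `A ∖ q`. -/
theorem isLocalization_locSub :
    letI : Algebra B (locSub q B) := (toLocSub q B).toAlgebra
    IsLocalization (Algebra.algebraMapSubmonoid B q.primeCompl) (locSub q B) := by
  letI : Algebra B (locSub q B) := (toLocSub q B).toAlgebra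
  have halg : ∀ z : B, algebraMap B (locSub q B) z = toLocSub q B z := fun _ => rfl
  refine ⟨?_, ?_, ?_⟩
  · rintro ⟨_, s, hs, rfl⟩
    rw [halg, toLocSub_algebraMap]
    exact (IsLocalization.map_units (Localization.AtPrime q) (⟨s, hs⟩ : q.primeCompl)).map _
  · intro x
    obtain ⟨z, hz, s, hs, h⟩ := exists_of_mem_locSub q B x.2
    refine ⟨(⟨z, hz⟩, ⟨algebraMap A B s, s, hs, rfl⟩), ?_⟩
    apply Subtype.ext
    rw [halg, halg]
    show (x : FractionRing (Localization.AtPrime q)) *
      ((toLocSub q B (algebraMap A B s) : locSub q B) : FractionRing (Localization.AtPrime q)) =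
      ((toLocSub q B ⟨z, hz⟩ : locSub q B) : FractionRing (Localization.AtPrime q))
    rw [toLocSub_coe, toLocSub_coe, ← h, mul_comm]
    congr 1
    show rho q (algebraMap A (FractionRing A) s) = _
    rw [AlgHom.commutes]
  · intro z z' h
    rw [halg, halg] at h
    have h1 : rho q ((z : FractionRing A) - z') = 0 := by
      rw [map_sub, sub_eq_zero]
      exact congrArg Subtype.val h
    obtain ⟨s, hs, hsz⟩ := exists_smul_eq_zero_of_map_eq_zero q (rho q) h1
    refine ⟨⟨algebraMap A B s, s, hs, rfl⟩, ?_⟩
    apply Subtype.ext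
    show ((algebraMap A B s : B) : FractionRing A) * z = (algebraMap A B s : B) * z'
    rw [← sub_eq_zero, ← mul_sub]
    rw [Algebra.smul_def] at hsz
    exact hsz

end Groth.Agent.Lib.Helper18.Key
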