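import Mathlib
import Groth.Prelude.Def_Tame
import Groth.Agent.Lib.Helper18.Key.Bridge
import Groth.Agent.Lib.Helper18.Key.LocAdjoin
import Groth.Agent.Lib.Helper18.Tame.Common
import Groth.Agent.Lib.Helper18.Tame.Laws
import Groth.Agent.Lib.Helper24.Lattice.Main

/-!
# The tame symbol of `A_q` in terms of the local symbols of a finite local extension `B ⊆ Frac A`
-/

set_option autoImplicit false
set_option maxHeartbeats 1000000
set_option synthInstance.maxHeartbeats 200000
set_option linter.style.haveILetI false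
set_option linter.unusedSectionVars false
universe u
open IsLocalRing CycAlg Groth.Agent.Lib.Helper18.Tame
namespace Groth.Agent.Lib.Helper18.Key

section BFacts
variable {A : Type u} [CommRing A] (B : Subalgebra A (FractionRing A))

theorem algebraMap_mem_nonZeroDivisors_sub {t : A} (ht : t ∈ nonZeroDivisors A) :
    algebraMap A B t ∈ nonZeroDivisors B := by
  have hu : IsUnit (algebraMap A (FractionRing A) t) :=
    IsLocalization.map_units (FractionRing A) (⟨t, ht⟩ : nonZeroDivisors A)
  have key : ∀ z : B, algebraMap A B t * z = 0 → z = 0 := by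
    intro z hz
    apply Subtype.ext
    have h1 : algebraMap A (FractionRing A) t * (z : FractionRing A) = 0 :=
      congrArg Subtype.val hz
    exact (hu.mul_right_eq_zero).1 h1
  rw [mem_nonZeroDivisors_iff]
  exact ⟨key, fun z hz => key z (by rwa [mul_comm] at hz)⟩

end BFacts

section Units
variable {R : Type u} [CommRing R] [IsNoetherianRing R] [IsLocalRing R]

theorem tameSymbol_eq_one_of_units {x y : R} (hx : IsUnit x) (hy : IsUnit y) :
    tameSymbol R x y = 1 := by
  unfold tameSymbol
  split_ifs with h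
  · exact value_eq_one_of_units hx hy _
  · rfl

theorem ordFrac_one' (R : Type u) [CommRing R] (K : Type u) [Field K] [Algebra R K] :
    ordFrac R K (1 : K) = 0 := by
  unfold CycAlg.ordFrac
  split_ifs with h
  · rw [map_one]
    rfl
  · rfl

end Units

section PerPrime
variable {A : Type u} [CommRing A] [IsNoetherianRing A] [IsLocalRing A]

/-- Primes of `A_q` contracting to `q` are maximal. -/
theorem eq_maximalIdeal_of_comap_eq (q : Ideal A) [q.IsPrime]
    (P : Ideal (Localization.AtPrime q)) (hP : P.comap (algebraMap A _) = q) :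
    P = maximalIdeal (Localization.AtPrime q) := by
  rw [← IsLocalization.map_under q.primeCompl (Localization.AtPrime q) P,
    ← IsLocalization.map_under q.primeCompl (Localization.AtPrime q)
      (maximalIdeal (Localization.AtPrime q))]
  congr 1
  rw [Ideal.under_def, Ideal.under_def, hP]
  exact (IsLocalization.AtPrime.under_maximalIdeal (Localization.AtPrime q) q).symm

theorem per_prime (hA : ringKrullDim A ≤ 2) {a b : A} (ha : a ∈ nonZeroDivisors A)
    (hb : b ∈ nonZeroDivisors A)
    (B : Subalgebra A (FractionRing A)) [Module.Finite A B] [IsLocalRing B]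
    (q : Ideal A) [q.IsPrime] (hq1 : a * b ∈ q) (hq2 : q ≠ maximalIdeal A)
    (hmono : ∀ C'' : Subalgebra (Localization.AtPrime q) (FractionRing (Localization.AtPrime q)),
      (∀ z ∈ B, rho q z ∈ C'') →
      ∀ 𝔫 : MaximalSpectrum C'', ∃ π : Localization.AtPrime 𝔫.asIdeal,
        π ∈ nonZeroDivisors (Localization.AtPrime 𝔫.asIdeal) ∧
        MonoAt C'' 𝔫 π (algebraMap A _ a) ∧ MonoAt C'' 𝔫 π (algebraMap A _ b))
    (d : ℕ) (hd : Module.length A (B ⧸ maximalIdeal B) = d)
    (F : Finset (PrimeSpectrum B))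
    (hF : ∀ q' : PrimeSpectrum B, q' ∈ F ↔
      (algebraMap A B a * algebraMap A B b ∈ q'.asIdeal ∧ q'.asIdeal ≠ maximalIdeal B))
    [DecidablePred fun q' : PrimeSpectrum B => q'.asIdeal.comap (algebraMap A B) = q] :
    (∀ q' : PrimeSpectrum B, q' ∈ F → q'.asIdeal.comap (algebraMap A B) = q →
      Nonempty (Pres (Localization.AtPrime q'.asIdeal) (algebraMap B _ (algebraMap A B a))
        (algebraMap B _ (algebraMap A B b)))) ∧
    ∀ (g : PrimeSpectrum B → ℤ)
    (_ : ∀ q' : PrimeSpectrum B, algebraMap A B a * algebraMap A B b ∈ q'.asIdeal →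
      q'.asIdeal ≠ maximalIdeal B →
      ∀ P₂ : Pres (Localization.AtPrime q'.asIdeal) (algebraMap B _ (algebraMap A B a))
        (algebraMap B _ (algebraMap A B b)),
      g q' = ordFrac (B ⧸ q'.asIdeal) q'.asIdeal.ResidueField P₂.theta),
    ordFrac (A ⧸ q) q.ResidueField
      (tameSymbol (Localization.AtPrime q) (algebraMap A _ a) (algebraMap A _ b)) =
      (d : ℤ) * ∑ q' ∈ F.filter (fun q' => q'.asIdeal.comap (algebraMap A B) = q), g q' := by
  classical
  have hab : a * b ∈ nonZeroDivisors A := mul_mem ha hb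
  -- facts on `A_q`
  have hdim1 : ringKrullDim (Localization.AtPrime q) ≤ 1 :=
    ringKrullDim_atPrime_le_one hA hab q hq1 hq2
  haveI : IsNoetherianRing (Localization.AtPrime q) :=
    IsLocalization.isNoetherianRing q.primeCompl _ inferInstance
  have haq := map_mem_nonZeroDivisors' ha q
  have hbq := map_mem_nonZeroDivisors' hb q
  have hdimq : ringKrullDim (A ⧸ q) = 1 := ringKrullDim_quotient_eq_one hA hab q hq1 hq2
  haveI : Ring.KrullDimLE 1 (A ⧸ q) := krullDimLE_one_quotient hA hab q hq1
  -- facts on `B`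
  haveI : IsNoetherianRing B := IsNoetherianRing.of_finite A B
  haveI : Algebra.IsIntegral A B := Algebra.IsIntegral.of_finite A B
  have hB2 : ringKrullDim B ≤ 2 :=
    (Groth.Agent.Lib.Helper18.NormOrd.ringKrullDim_le_of_isIntegral A B).trans hA
  have habB : algebraMap A B a * algebraMap A B b ∈ nonZeroDivisors B :=
    mul_mem (algebraMap_mem_nonZeroDivisors_sub B ha) (algebraMap_mem_nonZeroDivisors_sub B hb)
  -- the ring `C`
  let C := locSub q B
  letI algBC : Algebra B C := (toLocSub q B).toAlgebra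
  haveI hlocC : IsLocalization (Algebra.algebraMapSubmonoid B q.primeCompl) C :=
    isLocalization_locSub q B
  have halgBC : ∀ z : B, algebraMap B C z = toLocSub q B z := fun _ => rfl
  haveI : IsScalarTower A B C := by
    apply IsScalarTower.of_algebraMap_eq
    intro x
    rw [halgBC, toLocSub_algebraMap]
    rfl
  haveI : IsScalarTower A (Localization.AtPrime q) C := IsScalarTower.of_algebraMap_eq (fun x => rfl)
  haveI : Module.Finite (Localization.AtPrime q) C := Module.Finite.of_isLocalization A B q.primeCompl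
  haveI : Algebra.IsIntegral (Localization.AtPrime q) C := Algebra.IsIntegral.of_finite _ _
  haveI : Finite (MaximalSpectrum C) := finite_maximalSpectrum_of_finite (Localization.AtPrime q) C
  letI : Fintype (MaximalSpectrum C) := Fintype.ofFinite _
  -- the tame data
  have hmonoC := hmono C (fun z hz => rho_mem_locSub q B hz)
  choose π hπ hmon using hmonoC
  have hfacx : ∀ (x : A) (𝔫 : MaximalSpectrum C),
      MonoAt C 𝔫 (π 𝔫) (algebraMap A (FractionRing (Localization.AtPrime q)) x) →
      ∃ (v : (Localization.AtPrime 𝔫.asIdeal)ˣ) (e : ℕ),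
        algebraMap (Localization.AtPrime q) (Localization.AtPrime 𝔫.asIdeal)
          (algebraMap A _ x) = v * π 𝔫 ^ e := by
    intro x 𝔫 hm
    obtain ⟨hx, v, e, h⟩ := hm
    refine ⟨v, e, ?_⟩
    rw [← h, IsScalarTower.algebraMap_apply (Localization.AtPrime q) C
      (Localization.AtPrime 𝔫.asIdeal)]
    congr 1
  have hfa := fun 𝔫 => hfacx a 𝔫 (hmon 𝔫).1
  have hfb := fun 𝔫 => hfacx b 𝔫 (hmon 𝔫).2
  choose u₁ e₁ hfac₁ using hfa
  choose u₂ e₂ hfac₂ using hfb
  let D : TameData (Localization.AtPrime q) (algebraMap A _ a) (algebraMap A _ b) :=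
    { B := C
      isFinExt := isFinExt hdim1 C
      isLocalHom := fun 𝔫 => isLocalHom_atPrime_of_integral (Localization.AtPrime q) C 𝔫
      π := π
      π_mem := hπ
      u₁ := u₁
      u₂ := u₂
      e₁ := e₁
      e₂ := e₂
      fac₁ := hfac₁
      fac₂ := hfac₂ }
  have hsym : tameSymbol (Localization.AtPrime q) (algebraMap A _ a) (algebraMap A _ b) =
      D.value := tameSymbol_eq_value hdim1 haq hbq D
  haveI hlh := D.isLocalHom
  have hval : D.value = ∏ 𝔫 : MaximalSpectrum C,
      Algebra.norm (ResidueField (Localization.AtPrime q)) (presOf D 𝔫).theta :=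
    value_eq_prod D
  have hper : ∀ 𝔫 : MaximalSpectrum C, ∃ q' : PrimeSpectrum B, q' ∈ F ∧
      q'.asIdeal.comap (algebraMap A B) = q ∧
      q'.asIdeal = 𝔫.asIdeal.comap (algebraMap B C) ∧
      Nonempty (Pres (Localization.AtPrime q'.asIdeal) (algebraMap B _ (algebraMap A B a))
        (algebraMap B _ (algebraMap A B b))) ∧
      ∀ P₂ : Pres (Localization.AtPrime q'.asIdeal) (algebraMap B _ (algebraMap A B a))
        (algebraMap B _ (algebraMap A B b)),
      ordFrac (A ⧸ q) q.ResidueField
        (Algebra.norm (ResidueField (Localization.AtPrime q)) (presOf D 𝔫).theta) =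
        (d : ℤ) * ordFrac (B ⧸ q'.asIdeal) q'.asIdeal.ResidueField P₂.theta := by
    intro 𝔫
    haveI := 𝔫.isMaximal
    let q'I : Ideal B := 𝔫.asIdeal.comap (algebraMap B C)
    haveI hq'prime : q'I.IsPrime := Ideal.comap_isPrime _ _
    have hunderC : 𝔫.asIdeal.comap (algebraMap (Localization.AtPrime q) C) =
        maximalIdeal (Localization.AtPrime q) :=
      under_eq_maximalIdeal (Localization.AtPrime q) C 𝔫.asIdeal
    have hunder : q'I.comap (algebraMap A B) = q := by
      show (𝔫.asIdeal.comap (algebraMap B C)).comap (algebraMap A B) = q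
      rw [Ideal.comap_comap, ← IsScalarTower.algebraMap_eq A B C,
        IsScalarTower.algebraMap_eq A (Localization.AtPrime q) C, ← Ideal.comap_comap, hunderC]
      exact IsLocalization.AtPrime.under_maximalIdeal (Localization.AtPrime q) q
    haveI : q'I.LiesOver q := ⟨hunder.symm⟩
    have hmemq' : algebraMap A B a * algebraMap A B b ∈ q'I := by
      rw [← map_mul]
      show a * b ∈ q'I.comap (algebraMap A B)
      rw [hunder]
      exact hq1
    have hneq' : q'I ≠ maximalIdeal B := by
      intro h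
      apply hq2
      rw [← hunder, h]
      exact under_eq_maximalIdeal A B (maximalIdeal B)
    haveI : IsLocalization.AtPrime (Localization.AtPrime 𝔫.asIdeal) q'I :=
      IsLocalization.isLocalization_isLocalization_atPrime_isLocalization
        (Algebra.algebraMapSubmonoid B q.primeCompl) (Localization.AtPrime 𝔫.asIdeal) 𝔫.asIdeal
    haveI : Ring.KrullDimLE 1 (Localization.AtPrime q'I) :=
      (Order.krullDimLE_iff 1 _).2 (ringKrullDim_atPrime_le_one hB2 habB q'I hmemq' hneq')
    haveI : IsLocalHom (algebraMap (Localization.AtPrime q) (Localization.AtPrime 𝔫.asIdeal)) :=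
      isLocalHom_atPrime_of_integral (Localization.AtPrime q) C 𝔫
    have hcomp : ∀ x : A, algebraMap (Localization.AtPrime q) (Localization.AtPrime 𝔫.asIdeal)
        (algebraMap A _ x) = algebraMap B (Localization.AtPrime 𝔫.asIdeal) (algebraMap A B x) := by
      intro x
      rw [IsScalarTower.algebraMap_apply (Localization.AtPrime q) C
        (Localization.AtPrime 𝔫.asIdeal), IsScalarTower.algebraMap_apply B C
        (Localization.AtPrime 𝔫.asIdeal), halgBC, toLocSub_algebraMap]
    refine ⟨⟨q'I, hq'prime⟩, (hF _).2 ⟨hmemq', hneq'⟩, hunder, rfl,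
      bridge_nonempty q q'I (Localization.AtPrime 𝔫.asIdeal) hcomp (presOf D 𝔫), fun P₂ => ?_⟩
    exact bridge q q'I hdimq d hd (Localization.AtPrime 𝔫.asIdeal) hcomp (presOf D 𝔫) P₂
  choose φ hφF hφq hφeq hφne hφord using hper
  -- surjectivity of `φ`
  have hsurj : ∀ q' : PrimeSpectrum B, q' ∈ F → q'.asIdeal.comap (algebraMap A B) = q →
      ∃ 𝔫 : MaximalSpectrum C, φ 𝔫 = q' := by
    intro q' hq'F hq'q
    have hdisj : Disjoint (Algebra.algebraMapSubmonoid B q.primeCompl : Set B) q'.asIdeal := by
      rw [Set.disjoint_left]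
      rintro _ ⟨s, hs, rfl⟩ hmem
      apply hs
      rw [← hq'q]
      exact hmem
    have hJprime : (q'.asIdeal.map (algebraMap B C)).IsPrime :=
      IsLocalization.isPrime_of_isPrime_disjoint (Algebra.algebraMapSubmonoid B q.primeCompl) C
        q'.asIdeal q'.isPrime hdisj
    have hJcomap : (q'.asIdeal.map (algebraMap B C)).comap (algebraMap B C) = q'.asIdeal :=
      IsLocalization.under_map_of_isPrime_disjoint (Algebra.algebraMapSubmonoid B q.primeCompl) C
        q'.isPrime hdisj
    have hJunder : (q'.asIdeal.map (algebraMap B C)).comap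
        (algebraMap (Localization.AtPrime q) C) = maximalIdeal (Localization.AtPrime q) := by
      apply eq_maximalIdeal_of_comap_eq
      rw [Ideal.comap_comap, ← IsScalarTower.algebraMap_eq A (Localization.AtPrime q) C,
        IsScalarTower.algebraMap_eq A B C, ← Ideal.comap_comap, hJcomap, hq'q]
    have hJmax : (q'.asIdeal.map (algebraMap B C)).IsMaximal := by
      apply Ideal.isMaximal_of_isIntegral_of_isMaximal_comap (R := Localization.AtPrime q)
      rw [hJunder]
      exact maximalIdeal.isMaximal _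
    refine ⟨⟨q'.asIdeal.map (algebraMap B C), hJmax⟩, ?_⟩
    apply PrimeSpectrum.ext
    rw [hφeq]
    exact hJcomap
  refine ⟨?_, ?_⟩
  · intro q' hq'F hq'q
    obtain ⟨𝔫, rfl⟩ := hsurj q' hq'F hq'q
    exact hφne 𝔫
  intro g hg
  rw [hsym, hval, Groth.Agent.Lib.Helper24.LatDist.ordZ_prod Finset.univ _
    (fun 𝔫 _ => norm_ne_zero_of_ne_zero (Pres.theta_ne_zero (presOf D 𝔫))), Finset.mul_sum]
  apply Finset.sum_bij (fun 𝔫 _ => φ 𝔫)
  · intro 𝔫 _
    exact Finset.mem_filter.2 ⟨hφF 𝔫, hφq 𝔫⟩
  · intro 𝔫 _ 𝔫' _ h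
    have h1 : 𝔫.asIdeal.comap (algebraMap B C) = 𝔫'.asIdeal.comap (algebraMap B C) := by
      rw [← hφeq 𝔫, ← hφeq 𝔫', h]
    apply MaximalSpectrum.ext
    rw [← IsLocalization.map_comap (Algebra.algebraMapSubmonoid B q.primeCompl) C 𝔫.asIdeal,
      ← IsLocalization.map_comap (Algebra.algebraMapSubmonoid B q.primeCompl) C 𝔫'.asIdeal,
      Ideal.under_def, Ideal.under_def, h1]
  · intro q' hq'
    obtain ⟨hq'F, hq'q⟩ := Finset.mem_filter.1 hq'
    obtain ⟨𝔫, h𝔫⟩ := hsurj q' hq'F hq'q
    exact ⟨𝔫, Finset.mem_univ _, h𝔫⟩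
  · intro 𝔫 _
    obtain ⟨P₂⟩ := hφne 𝔫
    have hm : algebraMap A B a * algebraMap A B b ∈ (φ 𝔫).asIdeal ∧
        (φ 𝔫).asIdeal ≠ maximalIdeal B := (hF _).1 (hφF 𝔫)
    rw [hg (φ 𝔫) hm.1 hm.2 P₂]
    exact hφord 𝔫 P₂

end PerPrime
end Groth.Agent.Lib.Helper18.Key
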