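import Mathlib
import Groth.Prelude.Def_CycAlg
import Groth.Agent.Lib.Helper18.Tame.Refine

/-!
# Contracted ideals of a localization at a prime and the cyclic modules they define
-/

set_option autoImplicit false
universe u

namespace Groth.Agent.Lib.Helper18.Key

open IsLocalRing CycAlg

section General

variable {A : Type u} [CommRing A] (q : Ideal A) [q.IsPrime]

/-- The contraction to `A` of an ideal of the localization at `q`. -/
def sat (𝔞 : Ideal (Localization.AtPrime q)) : Ideal A :=
  𝔞.comap (algebraMap A (Localization.AtPrime q))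

variable {q}

theorem mem_sat {𝔞 : Ideal (Localization.AtPrime q)} {y : A} :
    y ∈ sat q 𝔞 ↔ algebraMap A (Localization.AtPrime q) y ∈ 𝔞 := Iff.rfl

theorem isUnit_of_notMem {σ : A} (hσ : σ ∉ q) :
    IsUnit (algebraMap A (Localization.AtPrime q) σ) :=
  IsLocalization.map_units (Localization.AtPrime q) (⟨σ, hσ⟩ : q.primeCompl)

theorem mem_sat_of_mul_mem {𝔞 : Ideal (Localization.AtPrime q)} {σ y : A} (hσ : σ ∉ q)
    (h : σ * y ∈ sat q 𝔞) : y ∈ sat q 𝔞 := by
  rw [mem_sat, map_mul] at h
  rw [mem_sat]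
  exact (Ideal.unit_mul_mem_iff_mem 𝔞 (isUnit_of_notMem hσ)).1 h

theorem ker_le_sat (𝔞 : Ideal (Localization.AtPrime q)) :
    RingHom.ker (algebraMap A (Localization.AtPrime q)) ≤ sat q 𝔞 := by
  intro y hy
  rw [mem_sat, (RingHom.mem_ker).1 hy]
  exact 𝔞.zero_mem

theorem mem_sat_of_map_eq {𝔞 : Ideal (Localization.AtPrime q)} {y z : A}
    (h : algebraMap A (Localization.AtPrime q) y = algebraMap A (Localization.AtPrime q) z)
    (hz : z ∈ sat q 𝔞) : y ∈ sat q 𝔞 := by
  rw [mem_sat, h]
  exact hz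

theorem pow_le_sat {𝔞 : Ideal (Localization.AtPrime q)} {k : ℕ}
    (h : maximalIdeal (Localization.AtPrime q) ^ k ≤ 𝔞) : q ^ k ≤ sat q 𝔞 := by
  have h1 : q ≤ (maximalIdeal (Localization.AtPrime q)).comap
      (algebraMap A (Localization.AtPrime q)) := by
    intro y hy
    rw [Ideal.mem_comap, ← Localization.AtPrime.map_eq_maximalIdeal]
    exact Ideal.mem_map_of_mem _ hy
  calc q ^ k ≤ ((maximalIdeal (Localization.AtPrime q)).comap
        (algebraMap A (Localization.AtPrime q))) ^ k := Ideal.pow_right_mono h1 k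
    _ ≤ (maximalIdeal (Localization.AtPrime q) ^ k).comap
        (algebraMap A (Localization.AtPrime q)) := Ideal.le_comap_pow _ k
    _ ≤ sat q 𝔞 := Ideal.comap_mono h

end General

section Local

variable {A : Type u} [CommRing A] [IsNoetherianRing A] [IsLocalRing A]
variable {q : Ideal A} [q.IsPrime]

/-- A power of the maximal ideal lies in the sum of a `q`-primary contracted ideal and an
element outside `q`. -/
theorem exists_pow_le_sat_sup (hq2 : ∀ p : Ideal A, p.IsPrime → q ≤ p → p = q ∨ p = maximalIdeal A)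
    {𝔞 : Ideal (Localization.AtPrime q)} {k : ℕ}
    (h : maximalIdeal (Localization.AtPrime q) ^ k ≤ 𝔞) {σ : A} (hσ : σ ∉ q) :
    ∃ n : ℕ, maximalIdeal A ^ n ≤ sat q 𝔞 ⊔ Ideal.span {σ} := by
  apply Ideal.exists_pow_le_of_le_radical_of_fg _ (IsNoetherian.noetherian _)
  rw [Ideal.radical_eq_sInf]
  apply le_sInf
  rintro p ⟨hp, hpp⟩
  haveI := hpp
  have h1 : q ^ k ≤ p := (pow_le_sat h).trans (le_sup_left.trans hp)
  have h2 : q ≤ p := Ideal.IsPrime.le_of_pow_le h1
  rcases hq2 p hpp h2 with h3 | h3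
  · exfalso
    apply hσ
    rw [← h3]
    exact hp (Ideal.mem_sup_right (Ideal.subset_span rfl))
  · exact h3.ge

/-- A finite module killed by a `q`-primary contracted ideal and elementwise by elements outside
`q` has finite length. -/
theorem length_lt_top_of_killed
    (hq2 : ∀ p : Ideal A, p.IsPrime → q ≤ p → p = q ∨ p = maximalIdeal A)
    {𝔞 : Ideal (Localization.AtPrime q)} {k : ℕ}
    (h : maximalIdeal (Localization.AtPrime q) ^ k ≤ 𝔞)
    (H : Type u) [AddCommGroup H] [Module A H] [Module.Finite A H]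
    (h1 : ∀ j ∈ sat q 𝔞, ∀ x : H, j • x = 0)
    (h2 : ∀ x : H, ∃ σ : A, σ ∉ q ∧ σ • x = 0) : Module.length A H < ⊤ := by
  classical
  obtain ⟨S, hS⟩ := (Module.finite_def.1 (inferInstance : Module.Finite A H))
  choose σ hσ hσx using h2
  set τ : A := ∏ x ∈ S, σ x with hτ
  have hτq : τ ∉ q := by
    intro hmem
    obtain ⟨x, -, hx⟩ := (Ideal.IsPrime.prod_mem_iff).1 hmem
    exact hσ x hx
  have hτx : ∀ x : H, τ • x = 0 := by
    intro x
    have hx : x ∈ Submodule.span A (S : Set H) := by rw [hS]; trivial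
    induction hx using Submodule.span_induction with
    | mem y hy =>
      rw [hτ, ← Finset.mul_prod_erase S σ hy, mul_comm, mul_smul, hσx y, smul_zero]
    | zero => exact smul_zero _
    | add y z _ _ hy hz => rw [smul_add, hy, hz, add_zero]
    | smul a y _ hy => rw [smul_comm, hy, smul_zero]
  obtain ⟨n, hn⟩ := exists_pow_le_sat_sup hq2 h hτq
  have h3 := Groth.Agent.Lib.Helper18.Tame.length_quot_ne_top_of_pow_smul_le
    (A := A) (M := H) (⊥ : Submodule A H) n (by
      intro r hr x
      have hr' := hn hr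
      obtain ⟨j, hj, c, hc, rfl⟩ := Submodule.mem_sup.1 hr'
      obtain ⟨d, rfl⟩ := Ideal.mem_span_singleton'.1 hc
      rw [Submodule.mem_bot, add_smul, h1 j hj x, zero_add, mul_smul, hτx, smul_zero])
  rw [(Submodule.quotEquivOfEqBot (⊥ : Submodule A H) rfl).length_eq] at h3
  exact lt_top_iff_ne_top.2 h3

end Local

end Groth.Agent.Lib.Helper18.Key
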