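import Mathlib
import Groth.Prelude.Def_CycAlg
import Groth.Agent.Lib.Helper18.Key.Sat

/-!
# Periodic complexes on the cyclic modules `A ⧸ sat q (t')`
-/

set_option autoImplicit false
universe u

namespace Groth.Agent.Lib.Helper18.Key

open IsLocalRing CycAlg

section Mu

variable {A : Type u} [CommRing A]

/-- Multiplication by `g` on `A ⧸ I`. -/
abbrev mu (I : Ideal A) (g : A) : (A ⧸ I) →ₗ[A] (A ⧸ I) := g • LinearMap.id

theorem smul_mk (I : Ideal A) (j y : A) :
    j • (Ideal.Quotient.mk I y) = Ideal.Quotient.mk I (j * y) := rfl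

theorem mu_mk (I : Ideal A) (g y : A) :
    mu I g (Ideal.Quotient.mk I y) = Ideal.Quotient.mk I (g * y) := rfl

theorem mu_mul (I : Ideal A) (g h : A) : mu I (g * h) = mu I g ∘ₗ mu I h := by
  ext
  simp [mu, mul_smul]

theorem mu_eq_of_sub_mem (I : Ideal A) {g h : A} (hgh : g - h ∈ I) : mu I g = mu I h := by
  apply LinearMap.ext
  intro n
  obtain ⟨y, rfl⟩ := Ideal.Quotient.mk_surjective n
  rw [mu_mk, mu_mk, Ideal.Quotient.eq, ← sub_mul]
  exact I.mul_mem_right _ hgh

theorem mu_eq_zero_of_mem (I : Ideal A) {g : A} (hg : g ∈ I) : mu I g = 0 := by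
  apply LinearMap.ext
  intro n
  obtain ⟨y, rfl⟩ := Ideal.Quotient.mk_surjective n
  rw [mu_mk, LinearMap.zero_apply, Ideal.Quotient.eq_zero_iff_mem]
  exact I.mul_mem_right _ hg

theorem mu_pow (I : Ideal A) (g : A) (n : ℕ) : mu I (g ^ n) = (mu I g) ^ n := by
  induction n with
  | zero =>
    ext
    simp [mu]
  | succ n ih =>
    rw [pow_succ, pow_succ, mu_mul, ih]
    rfl

end Mu

section Fin

variable {A : Type u} [CommRing A] [IsNoetherianRing A] [IsLocalRing A]
variable {q : Ideal A} [q.IsPrime]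

/-- Finite length of the cohomology of `(A ⧸ sat(t'); g, h)` when `g h` is `t'` up to a unit. -/
theorem length_perH_lt_top
    (hq2 : ∀ p : Ideal A, p.IsPrime → q ≤ p → p = q ∨ p = maximalIdeal A)
    {t' : Localization.AtPrime q} (ht' : t' ∈ nonZeroDivisors (Localization.AtPrime q)) {k : ℕ}
    (hk : maximalIdeal (Localization.AtPrime q) ^ k ≤ Ideal.span {t'}) (g h : A)
    (w : (Localization.AtPrime q)ˣ)
    (hgh : algebraMap A (Localization.AtPrime q) g * algebraMap A (Localization.AtPrime q) h =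
      w * t') :
    Module.length A (perH (mu (sat q (Ideal.span {t'})) g) (mu (sat q (Ideal.span {t'})) h)) <
      ⊤ := by
  set I := sat q (Ideal.span {t'}) with hI
  have hgnz : algebraMap A (Localization.AtPrime q) g ∈ nonZeroDivisors (Localization.AtPrime q) := by
    have : algebraMap A (Localization.AtPrime q) g * algebraMap A (Localization.AtPrime q) h ∈
        nonZeroDivisors (Localization.AtPrime q) := by
      rw [hgh]
      exact mul_mem w.isUnit.mem_nonZeroDivisors ht'
    exact (mul_mem_nonZeroDivisors.1 this).1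
  apply length_lt_top_of_killed hq2 hk
  · intro j hj x
    obtain ⟨⟨n, hn⟩, rfl⟩ := Submodule.Quotient.mk_surjective _ x
    rw [← Submodule.Quotient.mk_smul]
    have : j • (⟨n, hn⟩ : LinearMap.ker (mu I g)) = 0 := by
      apply Subtype.ext
      show j • n = 0
      obtain ⟨y, rfl⟩ := Ideal.Quotient.mk_surjective n
      rw [smul_mk, Ideal.Quotient.eq_zero_iff_mem]
      exact I.mul_mem_right _ hj
    rw [this, Submodule.Quotient.mk_zero]
  · intro x
    obtain ⟨⟨n, hn⟩, rfl⟩ := Submodule.Quotient.mk_surjective _ x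
    obtain ⟨y, rfl⟩ := Ideal.Quotient.mk_surjective n
    have hy : g * y ∈ I := by
      have := (LinearMap.mem_ker).1 hn
      rwa [mu_mk, Ideal.Quotient.eq_zero_iff_mem] at this
    rw [hI, mem_sat, map_mul, Ideal.mem_span_singleton'] at hy
    obtain ⟨z, hz⟩ := hy
    -- `y/1 = (h/1) * (w⁻¹ z)`
    have h1 : algebraMap A (Localization.AtPrime q) y =
        algebraMap A (Localization.AtPrime q) h * ((w⁻¹ : (Localization.AtPrime q)ˣ) * z) := by
      have h2 : algebraMap A (Localization.AtPrime q) g * (algebraMap A (Localization.AtPrime q) y -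
          algebraMap A (Localization.AtPrime q) h * ((w⁻¹ : (Localization.AtPrime q)ˣ) * z)) = 0 := by
        rw [mul_sub, ← hz, ← mul_assoc, hgh]
        have : (w : Localization.AtPrime q) * t' * ((w⁻¹ : (Localization.AtPrime q)ˣ) * z) =
            ((w : Localization.AtPrime q) * (w⁻¹ : (Localization.AtPrime q)ˣ)) * (z * t') := by ring
        rw [this, Units.mul_inv, one_mul, sub_self]
      have h3 := (mem_nonZeroDivisors_iff.1 hgnz).1 _ h2
      exact sub_eq_zero.1 h3
    obtain ⟨⟨z₀, σ⟩, hσ⟩ := IsLocalization.surj q.primeCompl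
      (((w⁻¹ : (Localization.AtPrime q)ˣ) : Localization.AtPrime q) * z)
    refine ⟨σ, σ.2, ?_⟩
    rw [← Submodule.Quotient.mk_smul, Submodule.Quotient.mk_eq_zero, Submodule.submoduleOf,
      Submodule.mem_comap]
    refine ⟨Ideal.Quotient.mk I z₀, ?_⟩
    show mu I h (Ideal.Quotient.mk I z₀) = (σ : A) • Ideal.Quotient.mk I y
    rw [mu_mk, smul_mk, Ideal.Quotient.eq]
    apply ker_le_sat
    rw [RingHom.mem_ker, map_sub, map_mul, map_mul, h1, ← hσ]
    ring

end Fin

end Groth.Agent.Lib.Helper18.Key
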