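import Mathlib
import Groth.Prelude.Def_CycAlg
import Groth.Agent.Lib.Helper26.Herbrand
import Groth.Agent.Lib.Helper26.Herbrand2
import Groth.Agent.Lib.Helper18.Key.Cyclic

/-!
# Additivity of the Herbrand quotient of `(M; a, b)` for scalar endomorphisms
-/

set_option autoImplicit false
universe u v

namespace Groth.Agent.Lib.Helper18.Key

open CycAlg

section Sm

variable {A : Type u} [CommRing A]

/-- Multiplication by a scalar as an endomorphism. -/
abbrev sm (M : Type v) [AddCommGroup M] [Module A M] (g : A) : M →ₗ[A] M := g • LinearMap.id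

theorem sm_apply {M : Type v} [AddCommGroup M] [Module A M] (g : A) (m : M) :
    sm M g m = g • m := rfl

theorem sm_comm {M N : Type v} [AddCommGroup M] [Module A M] [AddCommGroup N] [Module A N]
    (f : M →ₗ[A] N) (g : A) : sm N g ∘ₗ f = f ∘ₗ sm M g := by
  ext m
  simp [sm]

theorem isPeriodic_sm {M : Type v} [AddCommGroup M] [Module A M] (a b : A)
    (hab : ∀ m : M, (a * b) • m = 0) : IsPeriodic (sm M a) (sm M b) := by
  constructor
  · ext m
    simp only [LinearMap.comp_apply, sm_apply, LinearMap.zero_apply, ← mul_smul, hab]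
  · ext m
    simp only [LinearMap.comp_apply, sm_apply, LinearMap.zero_apply, ← mul_smul, mul_comm b a,
      hab]

/-- Additivity along a short exact sequence, for scalar endomorphisms. -/
theorem herbrand_sm_shortExact (a b : A) {M₁ M₂ M₃ : Type v} [AddCommGroup M₁] [Module A M₁]
    [AddCommGroup M₂] [Module A M₂] [AddCommGroup M₃] [Module A M₃]
    (f₁ : M₁ →ₗ[A] M₂) (f₂ : M₂ →ₗ[A] M₃) (hf₁ : Function.Injective f₁)
    (hf₂ : Function.Surjective f₂) (hex : LinearMap.range f₁ = LinearMap.ker f₂)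
    (hab : ∀ m : M₂, (a * b) • m = 0)
    (htwo : (FinCoh A (sm M₁ a) (sm M₁ b) ∧ FinCoh A (sm M₂ a) (sm M₂ b)) ∨
      (FinCoh A (sm M₁ a) (sm M₁ b) ∧ FinCoh A (sm M₃ a) (sm M₃ b)) ∨
      (FinCoh A (sm M₂ a) (sm M₂ b) ∧ FinCoh A (sm M₃ a) (sm M₃ b))) :
    FinCoh A (sm M₁ a) (sm M₁ b) ∧ FinCoh A (sm M₂ a) (sm M₂ b) ∧
      FinCoh A (sm M₃ a) (sm M₃ b) ∧
      herbrand A (sm M₂ a) (sm M₂ b) =
        herbrand A (sm M₁ a) (sm M₁ b) + herbrand A (sm M₃ a) (sm M₃ b) := by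
  have h₁ : ∀ m : M₁, (a * b) • m = 0 := by
    intro m
    apply hf₁
    rw [map_smul, hab, map_zero]
  have h₃ : ∀ m : M₃, (a * b) • m = 0 := by
    intro m
    obtain ⟨m', rfl⟩ := hf₂ m
    rw [← map_smul, hab, map_zero]
  exact Groth.Agent.Lib.Helper26.Herbrand.main (sm M₁ a) (sm M₁ b) (sm M₂ a) (sm M₂ b)
    (sm M₃ a) (sm M₃ b) (isPeriodic_sm a b h₁) (isPeriodic_sm a b hab) (isPeriodic_sm a b h₃)
    f₁ f₁ f₂ f₂ (sm_comm f₁ a) (sm_comm f₁ b) (sm_comm f₂ a) (sm_comm f₂ b) hf₁ hf₁ hf₂ hf₂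
    hex hex htwo

theorem herbrand_sm_of_finite (a b : A) {M : Type v} [AddCommGroup M] [Module A M]
    (hab : ∀ m : M, (a * b) • m = 0) (hM : Module.length A M < ⊤) :
    FinCoh A (sm M a) (sm M b) ∧ herbrand A (sm M a) (sm M b) = 0 :=
  Groth.Agent.Lib.Helper26.Herbrand2.herbrand_of_finite _ _ (isPeriodic_sm a b hab) hM

/-- Additivity for a product. -/
theorem herbrand_sm_prod (a b : A) {M N : Type v} [AddCommGroup M] [Module A M]
    [AddCommGroup N] [Module A N] (hM : ∀ m : M, (a * b) • m = 0)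
    (hN : ∀ n : N, (a * b) • n = 0) (fM : FinCoh A (sm M a) (sm M b))
    (fN : FinCoh A (sm N a) (sm N b)) :
    FinCoh A (sm (M × N) a) (sm (M × N) b) ∧
      herbrand A (sm (M × N) a) (sm (M × N) b) =
        herbrand A (sm M a) (sm M b) + herbrand A (sm N a) (sm N b) := by
  have h := herbrand_sm_shortExact a b (LinearMap.inl A M N) (LinearMap.snd A M N)
    LinearMap.inl_injective LinearMap.snd_surjective (LinearMap.ker_snd A M N).symm
    (by
      rintro ⟨m, n⟩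
      rw [Prod.smul_mk, hM, hN]
      rfl) (Or.inr (Or.inl ⟨fM, fN⟩))
  exact ⟨h.2.1, h.2.2.2⟩

end Sm

section MV

variable {A : Type u} [CommRing A]

/-- Mayer–Vietoris additivity: `e(A/(I ⊓ J)) = e(A/I) + e(A/J)` when `A/(I ⊔ J)` has finite
length. -/
theorem herbrand_quot_inf (a b : A) (I J : Ideal A) (hI : a * b ∈ I) (hJ : a * b ∈ J)
    (fI : FinCoh A (mu I a) (mu I b)) (fJ : FinCoh A (mu J a) (mu J b))
    (hfin : Module.length A (A ⧸ (I ⊔ J)) < ⊤) :
    FinCoh A (mu (I ⊓ J) a) (mu (I ⊓ J) b) ∧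
      herbrand A (mu (I ⊓ J) a) (mu (I ⊓ J) b) =
        herbrand A (mu I a) (mu I b) + herbrand A (mu J a) (mu J b) := by
  have kill : ∀ (K : Ideal A), a * b ∈ K → ∀ m : A ⧸ K, (a * b) • m = 0 := by
    intro K hK m
    obtain ⟨y, rfl⟩ := Ideal.Quotient.mk_surjective m
    rw [smul_mk, Ideal.Quotient.eq_zero_iff_mem]
    exact K.mul_mem_right _ hK
  obtain ⟨fP, eP⟩ := herbrand_sm_prod a b (kill I hI) (kill J hJ) fI fJ
  obtain ⟨fS, eS⟩ := herbrand_sm_of_finite a b (kill (I ⊔ J) (Ideal.mem_sup_left hI)) hfin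
  let f₁ : (A ⧸ (I ⊓ J)) →ₗ[A] (A ⧸ I) × (A ⧸ J) :=
    (Submodule.factor (inf_le_left : I ⊓ J ≤ I)).prod (Submodule.factor (inf_le_right : I ⊓ J ≤ J))
  let f₂ : (A ⧸ I) × (A ⧸ J) →ₗ[A] A ⧸ (I ⊔ J) :=
    (Submodule.factor (le_sup_left : I ≤ I ⊔ J)) ∘ₗ LinearMap.fst A _ _ -
      (Submodule.factor (le_sup_right : J ≤ I ⊔ J)) ∘ₗ LinearMap.snd A _ _
  have hf₁ : Function.Injective f₁ := by
    rw [injective_iff_map_eq_zero]
    intro m hm
    obtain ⟨y, rfl⟩ := Ideal.Quotient.mk_surjective m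
    have h1 : (Ideal.Quotient.mk I y : A ⧸ I) = 0 := congrArg Prod.fst hm
    have h2 : (Ideal.Quotient.mk J y : A ⧸ J) = 0 := congrArg Prod.snd hm
    rw [Ideal.Quotient.eq_zero_iff_mem] at h1 h2 ⊢
    exact ⟨h1, h2⟩
  have hf₂ : Function.Surjective f₂ := by
    intro m
    obtain ⟨y, rfl⟩ := Ideal.Quotient.mk_surjective m
    refine ⟨(Ideal.Quotient.mk I y, 0), ?_⟩
    show Submodule.factor (le_sup_left : I ≤ I ⊔ J) (Ideal.Quotient.mk I y) -
      Submodule.factor (le_sup_right : J ≤ I ⊔ J) (0 : A ⧸ J) = _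
    rw [map_zero, sub_zero]
    rfl
  have hex : LinearMap.range f₁ = LinearMap.ker f₂ := by
    ext ⟨u, v⟩
    obtain ⟨y, rfl⟩ := Ideal.Quotient.mk_surjective u
    obtain ⟨z, rfl⟩ := Ideal.Quotient.mk_surjective v
    rw [LinearMap.mem_ker]
    constructor
    · rintro ⟨m, hm⟩
      obtain ⟨c, rfl⟩ := Ideal.Quotient.mk_surjective m
      have h1 : (Ideal.Quotient.mk I c : A ⧸ I) = Ideal.Quotient.mk I y := congrArg Prod.fst hm
      have h2 : (Ideal.Quotient.mk J c : A ⧸ J) = Ideal.Quotient.mk J z := congrArg Prod.snd hm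
      show (Ideal.Quotient.mk (I ⊔ J) y : A ⧸ (I ⊔ J)) - Ideal.Quotient.mk (I ⊔ J) z = 0
      rw [Ideal.Quotient.eq] at h1 h2
      rw [sub_eq_zero, Ideal.Quotient.eq]
      have : y - z = (c - z) - (c - y) := by ring
      rw [this]
      exact Ideal.sub_mem _ (Ideal.mem_sup_right h2) (Ideal.mem_sup_left h1)
    · intro h
      have h' : (Ideal.Quotient.mk (I ⊔ J) y : A ⧸ (I ⊔ J)) - Ideal.Quotient.mk (I ⊔ J) z = 0 := h
      rw [sub_eq_zero, Ideal.Quotient.eq] at h'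
      obtain ⟨i, hi, j, hj, hij⟩ := Submodule.mem_sup.1 h'
      refine ⟨Ideal.Quotient.mk (I ⊓ J) (y - i), ?_⟩
      show ((Ideal.Quotient.mk I (y - i) : A ⧸ I), (Ideal.Quotient.mk J (y - i) : A ⧸ J)) = _
      congr 1
      · rw [Ideal.Quotient.eq]
        have : y - i - y = -i := by ring
        rw [this]
        exact I.neg_mem hi
      · rw [Ideal.Quotient.eq]
        have : y - i - z = j := by linear_combination -hij
        rw [this]
        exact hj
  have h := herbrand_sm_shortExact a b f₁ f₂ hf₁ hf₂ hex (by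
      rintro ⟨m, n⟩
      rw [Prod.smul_mk, kill I hI, kill J hJ]
      rfl) (Or.inr (Or.inr ⟨fP, fS⟩))
  refine ⟨h.1, ?_⟩
  have h4 := h.2.2.2
  rw [eS, add_zero, eP] at h4
  exact h4.symm

end MV

end Groth.Agent.Lib.Helper18.Key
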