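import Mathlib
import Groth.Agent.Lib.Helper18.Tame.LocalSymbol
import Groth.Agent.Lib.Helper18.Key.Sat

/-!
# Global presentations: monomial presentations in `A_q` with all data lifted to `A`
-/

set_option autoImplicit false
universe u

namespace Groth.Agent.Lib.Helper18.Key

open IsLocalRing Groth.Agent.Lib.Helper18.Tame

variable {A : Type u} [CommRing A] (q : Ideal A) [q.IsPrime]

/-- A monomial presentation of `a, b` in `A_q` whose parameter, units and their inverses are
given by elements of `A`. -/
structure GPres (a b : A) where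
  ϖ : A
  x : A
  s : A
  y : A
  s' : A
  e : ℕ
  f : ℕ
  hx : x ∉ q
  hs : s ∉ q
  hy : y ∉ q
  hs' : s' ∉ q
  hϖ : algebraMap A (Localization.AtPrime q) ϖ ∈ nonZeroDivisors (Localization.AtPrime q)
  rel₁ : algebraMap A (Localization.AtPrime q) (s * a) =
    algebraMap A (Localization.AtPrime q) (x * ϖ ^ e)
  rel₂ : algebraMap A (Localization.AtPrime q) (s' * b) =
    algebraMap A (Localization.AtPrime q) (y * ϖ ^ f)

variable {q}

/-- The unit of `A_q` given by an element outside `q`. -/
noncomputable def unitOf {σ : A} (hσ : σ ∉ q) : (Localization.AtPrime q)ˣ :=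
  (isUnit_of_notMem hσ).unit

@[simp] theorem unitOf_val {σ : A} (hσ : σ ∉ q) :
    ((unitOf hσ : (Localization.AtPrime q)ˣ) : Localization.AtPrime q) =
      algebraMap A (Localization.AtPrime q) σ := rfl

namespace GPres

variable {a b : A} (G : GPres q a b)

/-- The first unit. -/
noncomputable def u₁ : (Localization.AtPrime q)ˣ := unitOf G.hx * (unitOf G.hs)⁻¹

/-- The second unit. -/
noncomputable def u₂ : (Localization.AtPrime q)ˣ := unitOf G.hy * (unitOf G.hs')⁻¹

theorem fac₁ : algebraMap A (Localization.AtPrime q) a =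
    (G.u₁ : Localization.AtPrime q) * algebraMap A (Localization.AtPrime q) G.ϖ ^ G.e := by
  have h := G.rel₁
  rw [map_mul, map_mul, map_pow] at h
  unfold u₁
  rw [Units.val_mul, mul_assoc, mul_comm _ (algebraMap A (Localization.AtPrime q) G.ϖ ^ G.e),
    ← mul_assoc, unitOf_val, ← h, mul_comm (algebraMap A (Localization.AtPrime q) G.s),
    mul_assoc]
  have : algebraMap A (Localization.AtPrime q) G.s *
      (((unitOf G.hs)⁻¹ : (Localization.AtPrime q)ˣ) : Localization.AtPrime q) = 1 := by
    rw [← unitOf_val G.hs, Units.mul_inv]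
  rw [this, mul_one]

theorem fac₂ : algebraMap A (Localization.AtPrime q) b =
    (G.u₂ : Localization.AtPrime q) * algebraMap A (Localization.AtPrime q) G.ϖ ^ G.f := by
  have h := G.rel₂
  rw [map_mul, map_mul, map_pow] at h
  unfold u₂
  rw [Units.val_mul, mul_assoc, mul_comm _ (algebraMap A (Localization.AtPrime q) G.ϖ ^ G.f),
    ← mul_assoc, unitOf_val, ← h, mul_comm (algebraMap A (Localization.AtPrime q) G.s'),
    mul_assoc]
  have : algebraMap A (Localization.AtPrime q) G.s' *
      (((unitOf G.hs')⁻¹ : (Localization.AtPrime q)ˣ) : Localization.AtPrime q) = 1 := by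
    rw [← unitOf_val G.hs', Units.mul_inv]
  rw [this, mul_one]

/-- The presentation in `A_q` attached to a global presentation. -/
noncomputable def toPres : Pres (Localization.AtPrime q)
    (algebraMap A (Localization.AtPrime q) a) (algebraMap A (Localization.AtPrime q) b) where
  π := algebraMap A (Localization.AtPrime q) G.ϖ
  π_mem := G.hϖ
  u₁ := G.u₁
  u₂ := G.u₂
  e₁ := G.e
  e₂ := G.f
  fac₁ := G.fac₁
  fac₂ := G.fac₂

end GPres

/-- Every presentation in `A_q` has the same symbol as one coming from a global presentation. -/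
theorem exists_gpres [IsNoetherianRing (Localization.AtPrime q)]
    [Ring.KrullDimLE 1 (Localization.AtPrime q)] {a b : A}
    (P : Pres (Localization.AtPrime q) (algebraMap A (Localization.AtPrime q) a)
      (algebraMap A (Localization.AtPrime q) b)) :
    ∃ G : GPres q a b, G.toPres.theta = P.theta := by
  obtain ⟨⟨ϖ, s₀⟩, hϖ⟩ := IsLocalization.surj q.primeCompl P.π
  -- `P.π * s₀ = ϖ`
  have key : ∀ (c : A) (u : (Localization.AtPrime q)ˣ) (n : ℕ),
      algebraMap A (Localization.AtPrime q) c = (u : Localization.AtPrime q) * P.π ^ n →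
      ∃ x s : A, x ∉ q ∧ s ∉ q ∧ algebraMap A (Localization.AtPrime q) (s * c) =
        algebraMap A (Localization.AtPrime q) (x * ϖ ^ n) := by
    intro c u n hc
    obtain ⟨⟨x, s⟩, hxs⟩ := IsLocalization.surj q.primeCompl (u : Localization.AtPrime q)
    have hxq : x ∉ q := by
      intro hx
      have h1 : IsUnit (algebraMap A (Localization.AtPrime q) x) := by
        rw [← hxs]
        exact u.isUnit.mul (isUnit_of_notMem s.2)
      have h2 : algebraMap A (Localization.AtPrime q) x ∈
          maximalIdeal (Localization.AtPrime q) := by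
        rw [← Localization.AtPrime.map_eq_maximalIdeal]
        exact Ideal.mem_map_of_mem _ hx
      exact (mem_maximalIdeal _).1 h2 h1
    refine ⟨x, s * s₀ ^ n, hxq, ?_, ?_⟩
    · intro hmem
      rcases (Ideal.IsPrime.mem_or_mem ‹_› hmem) with h | h
      · exact s.2 h
      · exact s₀.2 (Ideal.IsPrime.mem_of_pow_mem ‹_› _ h)
    · rw [map_mul, map_mul, map_mul, map_pow, map_pow, hc, ← hxs, ← hϖ]
      ring
  obtain ⟨x, s, hx, hs, h1⟩ := key a P.u₁ P.e₁ P.fac₁
  obtain ⟨y, s', hy, hs', h2⟩ := key b P.u₂ P.e₂ P.fac₂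
  have hϖnz : algebraMap A (Localization.AtPrime q) ϖ ∈
      nonZeroDivisors (Localization.AtPrime q) := by
    rw [← hϖ]
    exact mul_mem P.π_mem (isUnit_of_notMem s₀.2).mem_nonZeroDivisors
  let G : GPres q a b :=
    { ϖ := ϖ, x := x, s := s, y := y, s' := s', e := P.e₁, f := P.e₂, hx := hx, hs := hs,
      hy := hy, hs' := hs', hϖ := hϖnz, rel₁ := h1, rel₂ := h2 }
  exact ⟨G, Pres.theta_eq _ _⟩

end Groth.Agent.Lib.Helper18.Key
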