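import Mathlib
import Groth.Prelude.Def_CycAlg
import Groth.Agent.S1833
import Groth.Agent.Lib.Helper22.DimOneCoker
import Groth.Agent.Lib.Helper18.Key.Cyclic

/-!
# Multiplicities of the cyclic modules `A ⧸ sat q (h')`
-/

set_option autoImplicit false
universe u

namespace Groth.Agent.Lib.Helper18.Key

open IsLocalRing CycAlg Pointwise

section GeneralHerbrand

variable {A : Type u} [CommRing A] {K K' : Type u} [AddCommGroup K] [Module A K]
  [AddCommGroup K'] [Module A K']

theorem range_smul_id (x : A) :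
    LinearMap.range (x • (LinearMap.id : K →ₗ[A] K)) = x • (⊤ : Submodule A K) := by
  ext y
  simp [Submodule.mem_smul_pointwise_iff_exists]

theorem length_quot_smul_top_congr (e : K ≃ₗ[A] K') (x : A) :
    Module.length A (K ⧸ x • (⊤ : Submodule A K)) =
      Module.length A (K' ⧸ x • (⊤ : Submodule A K')) := by
  refine (Submodule.Quotient.equiv _ _ e ?_).length_eq
  ext y
  simp only [Submodule.mem_map, Submodule.mem_smul_pointwise_iff_exists, Submodule.mem_top,
    true_and]
  constructor
  · rintro ⟨_, ⟨z, rfl⟩, rfl⟩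
    exact ⟨e z, by simp⟩
  · rintro ⟨z, rfl⟩
    exact ⟨x • e.symm z, ⟨e.symm z, rfl⟩, by simp⟩

theorem length_perH_zero_left (ψ : K →ₗ[A] K) :
    Module.length A (perH (0 : K →ₗ[A] K) ψ) = Module.length A (K ⧸ LinearMap.range ψ) := by
  refine (Submodule.Quotient.equiv _ _
    (LinearEquiv.ofTop (LinearMap.ker (0 : K →ₗ[A] K)) LinearMap.ker_zero) ?_).length_eq
  ext y
  simp only [Submodule.mem_map, Submodule.submoduleOf, Submodule.mem_comap,
    Submodule.subtype_apply]
  constructor
  · rintro ⟨z, hz, rfl⟩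
    exact hz
  · intro hy
    exact ⟨⟨y, by simp⟩, hy, rfl⟩

/-- The Herbrand quotient of `(K; 0, x)` when `x` is injective on `K`. -/
theorem herbrand_zero_smul (x : A)
    (hinj : Function.Injective (x • (LinearMap.id : K →ₗ[A] K))) :
    herbrand A (0 : K →ₗ[A] K) (x • LinearMap.id) =
      ((Module.length A (K ⧸ x • (⊤ : Submodule A K))).toNat : ℤ) := by
  unfold herbrand
  rw [length_perH_zero_left, range_smul_id]
  have h2 : Module.length A (perH (x • (LinearMap.id : K →ₗ[A] K)) 0) = 0 := by
    rw [Module.length_eq_zero_iff]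
    have hker : LinearMap.ker (x • (LinearMap.id : K →ₗ[A] K)) = ⊥ :=
      LinearMap.ker_eq_bot.2 hinj
    haveI : Subsingleton (LinearMap.ker (x • (LinearMap.id : K →ₗ[A] K))) := by
      rw [hker]
      infer_instance
    infer_instance
  rw [h2]
  simp

end GeneralHerbrand

section Local

variable {A : Type u} [CommRing A] [IsNoetherianRing A] [IsLocalRing A]
variable {q : Ideal A} [q.IsPrime]

theorem mu_injective {𝔞 : Ideal (Localization.AtPrime q)} {x : A} (hx : x ∉ q) :
    Function.Injective (mu (sat q 𝔞) x) := by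
  rw [injective_iff_map_eq_zero]
  intro n hn
  obtain ⟨y, rfl⟩ := Ideal.Quotient.mk_surjective n
  rw [mu_mk, Ideal.Quotient.eq_zero_iff_mem] at hn
  rw [Ideal.Quotient.eq_zero_iff_mem]
  exact mem_sat_of_mul_mem hx hn

/-- Finite modules killed by a power of the maximal ideal have zero-dimensional support. -/
theorem supportDim_le_zero_of_pow_le (H : Type u) [AddCommGroup H] [Module A H]
    [Module.Finite A H] (n : ℕ) (h : maximalIdeal A ^ n ≤ Module.annihilator A H) :
    Module.supportDim A H ≤ 0 := by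
  apply Groth.Agent.Lib.Helper22.DimOneCoker.supportDim_le_zero_of_forall_eq (closedPoint A)
  intro p hp
  rw [Module.mem_support_iff_of_finite] at hp
  have h1 : maximalIdeal A ≤ p.asIdeal := Ideal.IsPrime.le_of_pow_le (h.trans hp)
  apply PrimeSpectrum.ext
  exact le_antisymm (le_maximalIdeal p.isPrime.ne_top) h1

theorem supportDim_quot_smul_le_zero
    (hq2 : ∀ p : Ideal A, p.IsPrime → q ≤ p → p = q ∨ p = maximalIdeal A)
    {𝔞 : Ideal (Localization.AtPrime q)} {k : ℕ}
    (hk : maximalIdeal (Localization.AtPrime q) ^ k ≤ 𝔞) {x : A} (hx : x ∉ q) :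
    Module.supportDim A ((A ⧸ sat q 𝔞) ⧸ x • (⊤ : Submodule A (A ⧸ sat q 𝔞))) ≤ 0 := by
  obtain ⟨n, hn⟩ := exists_pow_le_sat_sup hq2 hk hx
  apply supportDim_le_zero_of_pow_le _ n
  intro r hr
  rw [Module.mem_annihilator]
  intro m
  obtain ⟨m', rfl⟩ := Submodule.Quotient.mk_surjective _ m
  obtain ⟨y, rfl⟩ := Ideal.Quotient.mk_surjective m'
  obtain ⟨j, hj, c, hc, rfl⟩ := Submodule.mem_sup.1 (hn hr)
  obtain ⟨d, rfl⟩ := Ideal.mem_span_singleton'.1 hc
  rw [← Submodule.Quotient.mk_smul, Submodule.Quotient.mk_eq_zero,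
    Submodule.mem_smul_pointwise_iff_exists]
  refine ⟨Ideal.Quotient.mk _ (d * y), trivial, ?_⟩
  rw [smul_mk, smul_mk, Ideal.Quotient.eq]
  have : x * (d * y) - (j + d * x) * y = - (j * y) := by ring
  rw [this]
  exact Ideal.neg_mem_iff _ |>.2 (Ideal.mul_mem_right _ _ hj)

theorem supportDim_quot_sat_le_one
    (hq2 : ∀ p : Ideal A, p.IsPrime → q ≤ p → p = q ∨ p = maximalIdeal A)
    (hqm : q ≠ maximalIdeal A)
    {𝔞 : Ideal (Localization.AtPrime q)} {k : ℕ}
    (hk : maximalIdeal (Localization.AtPrime q) ^ k ≤ 𝔞) :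
    Module.supportDim A (A ⧸ sat q 𝔞) ≤ 1 := by
  have hlt : q < maximalIdeal A :=
    lt_of_le_of_ne (le_maximalIdeal (Ideal.IsPrime.ne_top ‹_›)) hqm
  obtain ⟨x₀, hx₀m, hx₀q⟩ := SetLike.exists_of_lt hlt
  have h1 := Module.supportDim_le_supportDim_quotSMulTop_succ (M := A ⧸ sat q 𝔞) hx₀m
  have h2 := supportDim_quot_smul_le_zero hq2 hk hx₀q
  calc Module.supportDim A (A ⧸ sat q 𝔞)
      ≤ Module.supportDim A (QuotSMulTop x₀ (A ⧸ sat q 𝔞)) + 1 := h1
    _ ≤ 0 + 1 := by gcongr
    _ = 1 := by simp

/-- The length over the localization of the localized cyclic module. -/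
theorem length_localizedModule_quot_sat (h' : Localization.AtPrime q) :
    Module.length (Localization.AtPrime q)
      (LocalizedModule q.primeCompl (A ⧸ sat q (Ideal.span {h'}))) =
    Ring.ord (Localization.AtPrime q) h' := by
  set I := sat q (Ideal.span {h'}) with hI
  have hcomp := IsLocalization.linearMap_compatibleSMul q.primeCompl
  let f : A →ₗ[A] Localization.AtPrime q := Algebra.linearMap A (Localization.AtPrime q)
  let e₀ := IsLocalizedModule.linearEquiv q.primeCompl
    (Submodule.toLocalizedQuotient' (Localization.AtPrime q) q.primeCompl f I)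
    (LocalizedModule.mkLinearMap q.primeCompl (A ⧸ I))
  let e : ((Localization.AtPrime q) ⧸ Submodule.localized' (Localization.AtPrime q)
      q.primeCompl f I) ≃ₗ[Localization.AtPrime q] LocalizedModule q.primeCompl (A ⧸ I) :=
    e₀.restrictScalars _
  rw [← e.length_eq]
  have hb : Submodule.localized' (Localization.AtPrime q) q.primeCompl f I =
      Ideal.span {h'} := by
    rw [Submodule.localized'_eq_span]
    have : Submodule.span (Localization.AtPrime q) (f '' (I : Set A)) =
        Ideal.map (algebraMap A (Localization.AtPrime q)) I := rfl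
    rw [this, hI, sat, IsLocalization.map_comap q.primeCompl]
  unfold Ring.ord
  exact (Submodule.quotEquivOfEq _ _ hb).length_eq

/-- `ℓ_A(N/xN) = ord_{A/q}(x̄) · ord_{A_q}(h')` for `N = A ⧸ sat (h')` and `x ∉ q`. -/
theorem length_quot_smul_eq
    (hq2 : ∀ p : Ideal A, p.IsPrime → q ≤ p → p = q ∨ p = maximalIdeal A)
    (hqm : q ≠ maximalIdeal A) {h' : Localization.AtPrime q} {k : ℕ}
    (hk : maximalIdeal (Localization.AtPrime q) ^ k ≤ Ideal.span {h'}) {x : A} (hx : x ∉ q) :
    Module.length A ((A ⧸ sat q (Ideal.span {h'})) ⧸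
        x • (⊤ : Submodule A (A ⧸ sat q (Ideal.span {h'})))) =
      Ring.ord (A ⧸ q) (Ideal.Quotient.mk q x) * Ring.ord (Localization.AtPrime q) h' := by
  classical
  set I := sat q (Ideal.span {h'}) with hI
  have key := Groth.Agent.S1833.result A (A ⧸ I) x (supportDim_quot_sat_le_one hq2 hqm hk)
    (supportDim_quot_smul_le_zero hq2 hk hx)
  rw [key]
  have hker : Module.length A (LinearMap.ker (LinearMap.lsmul A (A ⧸ I) x)) = 0 := by
    rw [Module.length_eq_zero_iff]
    have : LinearMap.ker (LinearMap.lsmul A (A ⧸ I) x) = ⊥ := by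
      rw [LinearMap.ker_eq_bot]
      exact mu_injective (𝔞 := Ideal.span {h'}) hx
    rw [this]
    infer_instance
  rw [hker, zero_add]
  let qs : PrimeSpectrum A := ⟨q, inferInstance⟩
  rw [finsum_eq_single _ qs]
  · by_cases hc : qs ∈ Module.support A (A ⧸ I) ∧ qs.asIdeal ≠ maximalIdeal A
    · rw [finsum_eq_dif, dif_pos hc]
      show Ring.ord (A ⧸ q) _ * Module.length (Localization.AtPrime q)
        (LocalizedModule q.primeCompl (A ⧸ I)) = _
      rw [length_localizedModule_quot_sat]
    · have hns : qs ∉ Module.support A (A ⧸ I) := fun h => hc ⟨h, hqm⟩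
      rw [Module.notMem_support_iff] at hns
      have h0 : Module.length (Localization.AtPrime q)
          (LocalizedModule q.primeCompl (A ⧸ I)) = 0 := by
        rw [Module.length_eq_zero_iff]
        exact hns
      rw [length_localizedModule_quot_sat] at h0
      rw [h0, mul_zero]
      haveI : IsEmpty (qs ∈ Module.support A (A ⧸ I) ∧ qs.asIdeal ≠ maximalIdeal A) := ⟨hc⟩
      exact finsum_of_isEmpty _
  · intro p hp
    haveI : IsEmpty (p ∈ Module.support A (A ⧸ I) ∧ p.asIdeal ≠ maximalIdeal A) := by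
      constructor
      rintro ⟨h1, h2⟩
      rw [Module.mem_support_iff_of_finite, Ideal.annihilator_quotient] at h1
      have h3 : q ^ k ≤ p.asIdeal := (pow_le_sat hk).trans h1
      have h4 : q ≤ p.asIdeal := Ideal.IsPrime.le_of_pow_le h3
      rcases hq2 p.asIdeal p.isPrime h4 with h5 | h5
      · exact hp (PrimeSpectrum.ext h5)
      · exact h2 h5
    exact finsum_of_isEmpty _

end Local

end Groth.Agent.Lib.Helper18.Key
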