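import Mathlib
import Groth.Prelude.Def_CycAlg
import Groth.Agent.Lib.Helper18.Key.Mult

/-!
# The Herbrand quotient of `(g N; 0, x)` for `N = A ⧸ sat q (t')`
-/

set_option autoImplicit false
universe u

namespace Groth.Agent.Lib.Helper18.Key

open IsLocalRing CycAlg Pointwise

variable {A : Type u} [CommRing A] [IsNoetherianRing A] [IsLocalRing A]
variable {q : Ideal A} [q.IsPrime]

theorem nonempty_range_equiv {t' h' : Localization.AtPrime q} (g : A)
    (w : (Localization.AtPrime q)ˣ)
    (hg : algebraMap A (Localization.AtPrime q) g ∈ nonZeroDivisors (Localization.AtPrime q))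
    (hgh : algebraMap A (Localization.AtPrime q) g * h' = w * t') :
    Nonempty (↥(LinearMap.range (mu (sat q (Ideal.span {t'})) g)) ≃ₗ[A]
      A ⧸ sat q (Ideal.span {h'})) := by
  set It := sat q (Ideal.span {t'}) with hIt
  set Ih := sat q (Ideal.span {h'}) with hIh
  let φ : A →ₗ[A] A ⧸ It := (mu It g) ∘ₗ (Submodule.mkQ It)
  have hrange : LinearMap.range φ = LinearMap.range (mu It g) :=
    LinearMap.range_comp_of_range_eq_top _ (Submodule.range_mkQ It)
  have hker : LinearMap.ker φ = Ih := by
    ext y
    rw [LinearMap.mem_ker]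
    show mu It g (Ideal.Quotient.mk It y) = 0 ↔ y ∈ Ih
    rw [mu_mk, Ideal.Quotient.eq_zero_iff_mem, hIt, hIh, mem_sat, mem_sat, map_mul,
      Ideal.mem_span_singleton', Ideal.mem_span_singleton']
    constructor
    · rintro ⟨c, hc⟩
      refine ⟨((w⁻¹ : (Localization.AtPrime q)ˣ) : Localization.AtPrime q) * c, ?_⟩
      have h2 : algebraMap A (Localization.AtPrime q) g *
          (((w⁻¹ : (Localization.AtPrime q)ˣ) : Localization.AtPrime q) * c * h' -
            algebraMap A (Localization.AtPrime q) y) = 0 := by
        rw [mul_sub, ← hc]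
        have : algebraMap A (Localization.AtPrime q) g *
            (((w⁻¹ : (Localization.AtPrime q)ˣ) : Localization.AtPrime q) * c * h') =
            ((w⁻¹ : (Localization.AtPrime q)ˣ) : Localization.AtPrime q) * c *
              (algebraMap A (Localization.AtPrime q) g * h') := by ring
        rw [this, hgh]
        have : ((w⁻¹ : (Localization.AtPrime q)ˣ) : Localization.AtPrime q) * c *
            ((w : Localization.AtPrime q) * t') =
            (((w⁻¹ : (Localization.AtPrime q)ˣ) : Localization.AtPrime q) * w) * (c * t') := by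
          ring
        rw [this, Units.inv_mul, one_mul, sub_self]
      exact sub_eq_zero.1 ((mem_nonZeroDivisors_iff.1 hg).1 _ h2)
    · rintro ⟨c, hc⟩
      refine ⟨c * w, ?_⟩
      rw [← hc]
      have : algebraMap A (Localization.AtPrime q) g * (c * h') =
          c * (algebraMap A (Localization.AtPrime q) g * h') := by ring
      rw [this, hgh]
      ring
  exact ⟨(LinearEquiv.ofEq _ _ hrange).symm ≪≫ₗ φ.quotKerEquivRange.symm ≪≫ₗ
    Submodule.quotEquivOfEq _ _ hker⟩

/-- The Herbrand quotient of `(g N; 0, x)`. -/
theorem herbrand_range_eq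
    (hq2 : ∀ p : Ideal A, p.IsPrime → q ≤ p → p = q ∨ p = maximalIdeal A)
    (hqm : q ≠ maximalIdeal A) {t' : Localization.AtPrime q}
    (ht' : t' ∈ nonZeroDivisors (Localization.AtPrime q)) {k : ℕ}
    (hk : maximalIdeal (Localization.AtPrime q) ^ k ≤ Ideal.span {t'}) (g : A)
    (h' : Localization.AtPrime q) (w : (Localization.AtPrime q)ˣ)
    (hgh : algebraMap A (Localization.AtPrime q) g * h' = w * t') {x : A} (hx : x ∉ q) :
    herbrand A (0 : ↥(LinearMap.range (mu (sat q (Ideal.span {t'})) g)) →ₗ[A]
        ↥(LinearMap.range (mu (sat q (Ideal.span {t'})) g))) (x • LinearMap.id) =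
      ((Ring.ord (A ⧸ q) (Ideal.Quotient.mk q x)).toNat : ℤ) *
        ((Ring.ord (Localization.AtPrime q) h').toNat : ℤ) := by
  have hg : algebraMap A (Localization.AtPrime q) g ∈
      nonZeroDivisors (Localization.AtPrime q) := by
    have : algebraMap A (Localization.AtPrime q) g * h' ∈
        nonZeroDivisors (Localization.AtPrime q) := by
      rw [hgh]
      exact mul_mem w.isUnit.mem_nonZeroDivisors ht'
    exact (mul_mem_nonZeroDivisors.1 this).1
  obtain ⟨e⟩ := nonempty_range_equiv g w hg hgh
  have hinj : Function.Injective (x • (LinearMap.id :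
      ↥(LinearMap.range (mu (sat q (Ideal.span {t'})) g)) →ₗ[A] _)) := by
    intro y z hyz
    apply Subtype.ext
    apply mu_injective (𝔞 := Ideal.span {t'}) hx
    have := congrArg Subtype.val hyz
    exact this
  have hk' : maximalIdeal (Localization.AtPrime q) ^ k ≤ Ideal.span {h'} := by
    refine hk.trans ?_
    rw [Ideal.span_singleton_le_span_singleton]
    refine ⟨((w⁻¹ : (Localization.AtPrime q)ˣ) : Localization.AtPrime q) *
      algebraMap A (Localization.AtPrime q) g, ?_⟩
    have : h' * (((w⁻¹ : (Localization.AtPrime q)ˣ) : Localization.AtPrime q) *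
        algebraMap A (Localization.AtPrime q) g) =
        ((w⁻¹ : (Localization.AtPrime q)ˣ) : Localization.AtPrime q) *
          (algebraMap A (Localization.AtPrime q) g * h') := by ring
    rw [this, hgh, ← mul_assoc, Units.inv_mul, one_mul]
  rw [herbrand_zero_smul x hinj, length_quot_smul_top_congr e x,
    length_quot_smul_eq hq2 hqm hk' hx, ENat.toNat_mul]
  push_cast
  rfl

end Groth.Agent.Lib.Helper18.Key
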