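import Mathlib
import Groth.Prelude.Def_CycAlg
import Groth.Agent.S1831
import Groth.Agent.Lib.Helper26.HerbrandSmul
import Groth.Agent.Lib.Helper26.Herbrand2
import Groth.Agent.Lib.Helper18.Key.Range
import Groth.Agent.Lib.Helper18.Key.GPres

/-!
# The Herbrand quotient of `(A ⧸ sat q (ab); a, b)` for a global presentation
-/

set_option autoImplicit false
set_option maxHeartbeats 800000
universe u

namespace Groth.Agent.Lib.Helper18.Key

open IsLocalRing CycAlg Pointwise Groth.Agent.Lib.Helper18.Tame

variable {A : Type u} [CommRing A] [IsNoetherianRing A] [IsLocalRing A]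
variable {q : Ideal A} [q.IsPrime]

theorem smul_mu (I : Ideal A) (x g : A) : x • mu I g = mu I (x * g) := by
  unfold mu
  rw [mul_smul]

/-- The Herbrand quotient of `(A ⧸ sat q (ab); a, b)`. -/
theorem herbrand_eq_of_gpres
    (hq2 : ∀ p : Ideal A, p.IsPrime → q ≤ p → p = q ∨ p = maximalIdeal A)
    (hqm : q ≠ maximalIdeal A) (hdim : ringKrullDim (Localization.AtPrime q) ≤ 1) {a b : A}
    (ha : algebraMap A (Localization.AtPrime q) a ∈ nonZeroDivisors (Localization.AtPrime q))
    (hb : algebraMap A (Localization.AtPrime q) b ∈ nonZeroDivisors (Localization.AtPrime q))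
    (G : GPres q a b) :
    FinCoh A (mu (sat q (Ideal.span {algebraMap A (Localization.AtPrime q) (a * b)})) a)
      (mu (sat q (Ideal.span {algebraMap A (Localization.AtPrime q) (a * b)})) b) ∧
    herbrand A (mu (sat q (Ideal.span {algebraMap A (Localization.AtPrime q) (a * b)})) a)
      (mu (sat q (Ideal.span {algebraMap A (Localization.AtPrime q) (a * b)})) b) =
    ((Ring.ord (Localization.AtPrime q) (algebraMap A (Localization.AtPrime q) G.ϖ)).toNat : ℤ) *
      ((G.e : ℤ) * (((Ring.ord (A ⧸ q) (Ideal.Quotient.mk q G.y)).toNat : ℤ) -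
          ((Ring.ord (A ⧸ q) (Ideal.Quotient.mk q G.s')).toNat : ℤ)) -
        (G.f : ℤ) * (((Ring.ord (A ⧸ q) (Ideal.Quotient.mk q G.x)).toNat : ℤ) -
          ((Ring.ord (A ⧸ q) (Ideal.Quotient.mk q G.s)).toNat : ℤ))) := by
  haveI : IsNoetherianRing (Localization.AtPrime q) :=
    IsLocalization.isNoetherianRing q.primeCompl _ inferInstance
  haveI : Ring.KrullDimLE 1 (Localization.AtPrime q) := (Order.krullDimLE_iff 1 _).2 hdim
  set t' : Localization.AtPrime q := algebraMap A (Localization.AtPrime q) (a * b) with ht'def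
  have ht'eq : t' = algebraMap A (Localization.AtPrime q) a *
      algebraMap A (Localization.AtPrime q) b := by rw [ht'def, map_mul]
  have ht' : t' ∈ nonZeroDivisors (Localization.AtPrime q) := by
    rw [ht'eq]
    exact mul_mem ha hb
  obtain ⟨k, hk⟩ := Groth.Agent.Lib.Helper2.ChiLocal2.exists_pow_le_of_dim_one t' hdim ht'
  set I := sat q (Ideal.span {t'}) with hI
  -- notation
  set ϖ := G.ϖ with hϖdef
  set e := G.e with hedef
  set f := G.f with hfdef
  have R1 : algebraMap A (Localization.AtPrime q) G.s * algebraMap A (Localization.AtPrime q) a =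
      algebraMap A (Localization.AtPrime q) G.x * algebraMap A (Localization.AtPrime q) ϖ ^ e := by
    have := G.rel₁
    rwa [map_mul, map_mul, map_pow] at this
  have R2 : algebraMap A (Localization.AtPrime q) G.s' * algebraMap A (Localization.AtPrime q) b =
      algebraMap A (Localization.AtPrime q) G.y * algebraMap A (Localization.AtPrime q) ϖ ^ f := by
    have := G.rel₂
    rwa [map_mul, map_mul, map_pow] at this
  -- the units
  set ux := unitOf (q := q) G.hx with hux
  set us := unitOf (q := q) G.hs with hus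
  set uy := unitOf (q := q) G.hy with huy
  set us' := unitOf (q := q) G.hs' with hus'
  have vx : (ux : Localization.AtPrime q) = algebraMap A _ G.x := rfl
  have vs : (us : Localization.AtPrime q) = algebraMap A _ G.s := rfl
  have vy : (uy : Localization.AtPrime q) = algebraMap A _ G.y := rfl
  have vs' : (us' : Localization.AtPrime q) = algebraMap A _ G.s' := rfl
  have hw₁ : algebraMap A (Localization.AtPrime q) (ϖ ^ e) *
      algebraMap A (Localization.AtPrime q) b = ((ux⁻¹ * us : (Localization.AtPrime q)ˣ) :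
        Localization.AtPrime q) * t' := by
    rw [map_pow, Units.val_mul, ht'eq]
    have h1 : ((ux⁻¹ : (Localization.AtPrime q)ˣ) : Localization.AtPrime q) *
        (algebraMap A _ G.x * algebraMap A (Localization.AtPrime q) ϖ ^ e) =
        algebraMap A (Localization.AtPrime q) ϖ ^ e := by
      rw [← mul_assoc, ← vx, Units.inv_mul, one_mul]
    rw [← h1, ← R1, vs]
    ring
  have hw₂ : algebraMap A (Localization.AtPrime q) (ϖ ^ f) *
      algebraMap A (Localization.AtPrime q) a = ((uy⁻¹ * us' : (Localization.AtPrime q)ˣ) :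
        Localization.AtPrime q) * t' := by
    rw [map_pow, Units.val_mul, ht'eq]
    have h1 : ((uy⁻¹ : (Localization.AtPrime q)ˣ) : Localization.AtPrime q) *
        (algebraMap A _ G.y * algebraMap A (Localization.AtPrime q) ϖ ^ f) =
        algebraMap A (Localization.AtPrime q) ϖ ^ f := by
      rw [← mul_assoc, ← vy, Units.inv_mul, one_mul]
    rw [← h1, ← R2, vs']
    ring
  have hw₃ : algebraMap A (Localization.AtPrime q) (ϖ ^ e) *
      algebraMap A (Localization.AtPrime q) (ϖ ^ f) =
      (((ux⁻¹ * us) * (uy⁻¹ * us') : (Localization.AtPrime q)ˣ) :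
        Localization.AtPrime q) * t' := by
    have h1 : ((ux⁻¹ : (Localization.AtPrime q)ˣ) : Localization.AtPrime q) *
        (algebraMap A _ G.x * algebraMap A (Localization.AtPrime q) ϖ ^ e) =
        algebraMap A (Localization.AtPrime q) ϖ ^ e := by
      rw [← mul_assoc, ← vx, Units.inv_mul, one_mul]
    have h2 : ((uy⁻¹ : (Localization.AtPrime q)ˣ) : Localization.AtPrime q) *
        (algebraMap A _ G.y * algebraMap A (Localization.AtPrime q) ϖ ^ f) =
        algebraMap A (Localization.AtPrime q) ϖ ^ f := by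
      rw [← mul_assoc, ← vy, Units.inv_mul, one_mul]
    rw [map_pow, map_pow, ← h1, ← h2, ← R1, ← R2, Units.val_mul, Units.val_mul, Units.val_mul,
      vs, vs', ht'eq]
    ring
  -- periodicity and finiteness for monomial pairs
  have per : ∀ (g h : A) (w : (Localization.AtPrime q)ˣ),
      algebraMap A (Localization.AtPrime q) g * algebraMap A (Localization.AtPrime q) h =
        w * t' → IsPeriodic (mu I g) (mu I h) := by
    intro g h w hw
    have hmem : g * h ∈ I := by
      rw [hI, mem_sat, map_mul, hw]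
      exact Ideal.mul_mem_left _ _ (Ideal.subset_span rfl)
    constructor
    · rw [← mu_mul]
      exact mu_eq_zero_of_mem I hmem
    · rw [← mu_mul, mul_comm]
      exact mu_eq_zero_of_mem I hmem
  have fin : ∀ (g h : A) (w : (Localization.AtPrime q)ˣ),
      algebraMap A (Localization.AtPrime q) g * algebraMap A (Localization.AtPrime q) h =
        w * t' → FinCoh A (mu I g) (mu I h) := by
    intro g h w hw
    exact ⟨length_perH_lt_top hq2 ht' hk g h w hw,
      length_perH_lt_top hq2 ht' hk h g w (by rw [mul_comm]; exact hw)⟩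
  have hab : algebraMap A (Localization.AtPrime q) a * algebraMap A (Localization.AtPrime q) b =
      ((1 : (Localization.AtPrime q)ˣ) : Localization.AtPrime q) * t' := by
    rw [Units.val_one, one_mul, ht'eq]
  have hba : algebraMap A (Localization.AtPrime q) b * algebraMap A (Localization.AtPrime q) a =
      ((1 : (Localization.AtPrime q)ˣ) : Localization.AtPrime q) * t' := by
    rw [Units.val_one, one_mul, ht'eq, mul_comm]
  have sd : ∀ {x : A}, x ∉ q →
      Module.supportDim A ((A ⧸ I) ⧸ x • (⊤ : Submodule A (A ⧸ I))) ≤ 0 :=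
    fun hx => supportDim_quot_smul_le_zero hq2 hk hx
  -- the orders of `a` and `b`
  set m := (Ring.ord (Localization.AtPrime q) (algebraMap A (Localization.AtPrime q) ϖ)).toNat
    with hm
  have oa : (Ring.ord (Localization.AtPrime q) (algebraMap A (Localization.AtPrime q) a)).toNat =
      e * m := by
    rw [G.fac₁]
    exact Pres.ord_fac _ G.hϖ _ _
  have ob : (Ring.ord (Localization.AtPrime q) (algebraMap A (Localization.AtPrime q) b)).toNat =
      f * m := by
    rw [G.fac₂]
    exact Pres.ord_fac _ G.hϖ _ _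
  -- step (1)
  have s1 := (Groth.Agent.Lib.Helper26.HerbrandSmul.main (mu I a) (mu I b) (per a b 1 hab)
    (fin a b 1 hab) G.s (sd G.hs)).1.2
  rw [herbrand_range_eq hq2 hqm ht' hk a (algebraMap A _ b) 1 hab G.hs, smul_mu] at s1
  -- step (2)
  have s2 := (Groth.Agent.Lib.Helper26.HerbrandSmul.main (mu I (ϖ ^ e)) (mu I b)
    (per _ _ _ hw₁) (fin _ _ _ hw₁) G.x (sd G.hx)).1.2
  rw [herbrand_range_eq hq2 hqm ht' hk (ϖ ^ e) (algebraMap A _ b) _ hw₁ G.hx, smul_mu] at s2
  have e12 : mu I (G.s * a) = mu I (G.x * ϖ ^ e) := by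
    apply mu_eq_of_sub_mem
    apply ker_le_sat
    rw [RingHom.mem_ker, map_sub, G.rel₁, sub_self]
  -- step (3)
  have s3 := (Groth.Agent.Lib.Helper26.HerbrandSmul.main (mu I (ϖ ^ e)) (mu I b)
    (per _ _ _ hw₁) (fin _ _ _ hw₁) G.s' (sd G.hs')).2.2
  rw [herbrand_range_eq hq2 hqm ht' hk b (algebraMap A _ a) 1 hba G.hs', smul_mu] at s3
  -- step (4)
  have s4 := (Groth.Agent.Lib.Helper26.HerbrandSmul.main (mu I (ϖ ^ e)) (mu I (ϖ ^ f))
    (per _ _ _ hw₃) (fin _ _ _ hw₃) G.y (sd G.hy)).2.2
  rw [herbrand_range_eq hq2 hqm ht' hk (ϖ ^ f) (algebraMap A _ a) _ hw₂ G.hy, smul_mu] at s4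
  have e34 : mu I (G.s' * b) = mu I (G.y * ϖ ^ f) := by
    apply mu_eq_of_sub_mem
    apply ker_le_sat
    rw [RingHom.mem_ker, map_sub, G.rel₂, sub_self]
  -- step (5)
  have s5 : herbrand A (mu I (ϖ ^ e)) (mu I (ϖ ^ f)) = 0 := by
    rcases Nat.eq_zero_or_pos (e + f) with h0 | hpos
    · -- the module is trivial
      have h1 : (1 : A) ∈ I := by
        have he0 : e = 0 := by omega
        have hf0 : f = 0 := by omega
        rw [he0, hf0, pow_zero, map_one, one_mul] at hw₃
        rw [hI, mem_sat, map_one, hw₃]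
        exact Ideal.mul_mem_left _ _ (Ideal.subset_span rfl)
      have htop : I = ⊤ := (Ideal.eq_top_iff_one I).2 h1
      haveI : Subsingleton (A ⧸ I) := Ideal.Quotient.subsingleton_iff.2 htop
      have hlen : Module.length A (A ⧸ I) < ⊤ := by
        rw [Module.length_eq_zero]
        exact ENat.top_pos
      exact (Groth.Agent.Lib.Helper26.Herbrand2.herbrand_of_finite _ _ (per _ _ _ hw₃) hlen).2
    · have hn : algebraMap A (Localization.AtPrime q) ϖ *
          algebraMap A (Localization.AtPrime q) (ϖ ^ (e + f - 1)) =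
          (((ux⁻¹ * us) * (uy⁻¹ * us') : (Localization.AtPrime q)ˣ) :
            Localization.AtPrime q) * t' := by
        rw [← hw₃, ← map_mul, ← map_mul, ← pow_succ', ← pow_add]
        congr 2
        omega
      have hfin := length_perH_lt_top hq2 ht' hk ϖ (ϖ ^ (e + f - 1)) _ hn
      rw [mu_pow] at hfin
      have hzero : (mu I ϖ) ^ (e + f) = 0 := by
        rw [← mu_pow]
        apply mu_eq_zero_of_mem
        rw [hI, mem_sat, pow_add, map_mul, hw₃]
        exact Ideal.mul_mem_left _ _ (Ideal.subset_span rfl)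
      have := (Groth.Agent.S1831.result (mu I ϖ) (e + f) hpos hzero hfin e (by omega)).2
      rw [← mu_pow, ← mu_pow] at this
      rw [show e + f - e = f by omega] at this
      exact this
  refine ⟨fin a b 1 hab, ?_⟩
  rw [e12, s2] at s1
  rw [e34, s4, s5] at s3
  rw [oa] at s3 s4
  rw [ob] at s1 s2
  push_cast at s1 s3
  linear_combination (-1 : ℤ) * s1 - s3

end Groth.Agent.Lib.Helper18.Key
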