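import Mathlib
import Groth.Prelude.Def_Tame
import Groth.Agent.Lib.Helper24.Lattice.Main
import Groth.Agent.Lib.Helper18.Cyc.OrdFlat
import Groth.Agent.Lib.Helper18.Cyc.PullRat
import Groth.Agent.Lib.Helper18.Key.GPres

/-!
# The order of the local symbol of a global presentation
-/

set_option autoImplicit false
universe u

namespace Groth.Agent.Lib.Helper18.Key

open IsLocalRing CycAlg Groth.Agent.Lib.Helper18.Tame Groth.Agent.Lib.Helper24.LatDist
  Groth.Agent.Lib.Helper18.CycDiv

variable {A : Type u} [CommRing A] [IsNoetherianRing A] {q : Ideal A} [q.IsPrime]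

theorem residue_algebraMap (x : A) :
    residue (Localization.AtPrime q) (algebraMap A (Localization.AtPrime q) x) =
      algebraMap (A ⧸ q) q.ResidueField (Ideal.Quotient.mk q x) := rfl

theorem residue_unitOf {σ : A} (hσ : σ ∉ q) :
    residue (Localization.AtPrime q) ((unitOf hσ : (Localization.AtPrime q)ˣ) :
      Localization.AtPrime q) = algebraMap (A ⧸ q) q.ResidueField (Ideal.Quotient.mk q σ) := rfl

theorem residue_unitOf_inv {σ : A} (hσ : σ ∉ q) :
    residue (Localization.AtPrime q) (((unitOf hσ)⁻¹ : (Localization.AtPrime q)ˣ) :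
      Localization.AtPrime q) =
      (algebraMap (A ⧸ q) q.ResidueField (Ideal.Quotient.mk q σ))⁻¹ := by
  apply eq_inv_of_mul_eq_one_left
  rw [← residue_unitOf hσ, ← map_mul, Units.inv_mul, map_one]

variable [Ring.KrullDimLE 1 (A ⧸ q)]

theorem ordFrac_neg_one : ordFrac (A ⧸ q) q.ResidueField (-1) = 0 := by
  have h := ordZ_mul (A := A ⧸ q) (K := q.ResidueField) (x := -1) (y := -1) (by simp) (by simp)
  rw [neg_mul_neg, one_mul, ordZ_one] at h
  omega

theorem mk_ne_zero {σ : A} (hσ : σ ∉ q) : Ideal.Quotient.mk q σ ≠ 0 := by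
  intro h
  exact hσ (Ideal.Quotient.eq_zero_iff_mem.1 h)

theorem algebraMap_mk_ne_zero {σ : A} (hσ : σ ∉ q) :
    algebraMap (A ⧸ q) q.ResidueField (Ideal.Quotient.mk q σ) ≠ 0 := by
  intro h
  apply mk_ne_zero hσ
  apply IsFractionRing.injective (A ⧸ q) q.ResidueField
  rw [h, map_zero]

/-- The order of the symbol of a global presentation. -/
theorem ordFrac_theta {a b : A} (G : GPres q a b) :
    ordFrac (A ⧸ q) q.ResidueField G.toPres.theta =
    ((Ring.ord (Localization.AtPrime q) (algebraMap A (Localization.AtPrime q) G.ϖ)).toNat : ℤ) *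
      ((G.f : ℤ) * (((Ring.ord (A ⧸ q) (Ideal.Quotient.mk q G.x)).toNat : ℤ) -
          ((Ring.ord (A ⧸ q) (Ideal.Quotient.mk q G.s)).toNat : ℤ)) -
        (G.e : ℤ) * (((Ring.ord (A ⧸ q) (Ideal.Quotient.mk q G.y)).toNat : ℤ) -
          ((Ring.ord (A ⧸ q) (Ideal.Quotient.mk q G.s')).toNat : ℤ))) := by
  have hu₁ : residue (Localization.AtPrime q) (G.u₁ : Localization.AtPrime q) =
      algebraMap (A ⧸ q) q.ResidueField (Ideal.Quotient.mk q G.x) /
        algebraMap (A ⧸ q) q.ResidueField (Ideal.Quotient.mk q G.s) := by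
    unfold GPres.u₁
    rw [Units.val_mul, map_mul, residue_unitOf, residue_unitOf_inv, div_eq_mul_inv]
  have hu₂ : residue (Localization.AtPrime q) (G.u₂ : Localization.AtPrime q) =
      algebraMap (A ⧸ q) q.ResidueField (Ideal.Quotient.mk q G.y) /
        algebraMap (A ⧸ q) q.ResidueField (Ideal.Quotient.mk q G.s') := by
    unfold GPres.u₂
    rw [Units.val_mul, map_mul, residue_unitOf, residue_unitOf_inv, div_eq_mul_inv]
  have n₁ : residue (Localization.AtPrime q) (G.u₁ : Localization.AtPrime q) ≠ 0 :=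
    Pres.residue_unit_ne_zero _
  have n₂ : residue (Localization.AtPrime q) (G.u₂ : Localization.AtPrime q) ≠ 0 :=
    Pres.residue_unit_ne_zero _
  have o₁ := ordZ_div (A := A ⧸ q) (K := q.ResidueField) (mk_ne_zero G.hx) (mk_ne_zero G.hs)
  have o₂ := ordZ_div (A := A ⧸ q) (K := q.ResidueField) (mk_ne_zero G.hy) (mk_ne_zero G.hs')
  rw [← hu₁] at o₁
  rw [← hu₂] at o₂
  unfold Pres.theta Pres.base
  show ordFrac (A ⧸ q) q.ResidueField
    (((-1 : q.ResidueField) ^ (G.e * G.f) *
      residue (Localization.AtPrime q) (G.u₁ : Localization.AtPrime q) ^ G.f *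
      (residue (Localization.AtPrime q) (G.u₂ : Localization.AtPrime q) ^ G.e)⁻¹) ^
      (Ring.ord (Localization.AtPrime q) (algebraMap A (Localization.AtPrime q) G.ϖ)).toNat) = _
  rw [ordZ_pow, ordZ_mul (mul_ne_zero (pow_ne_zero _ (by simp)) (pow_ne_zero _ n₁))
    (inv_ne_zero (pow_ne_zero _ n₂)), ordZ_mul (pow_ne_zero _ (by simp)) (pow_ne_zero _ n₁),
    ordZ_inv, ordZ_pow, ordZ_pow, ordZ_pow, ordFrac_neg_one, o₁, o₂]
  ring

end Groth.Agent.Lib.Helper18.Key
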