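import Mathlib
import Groth.Prelude.Def_Tame
import Groth.Agent.Lib.Helper18.Key.Basic
import Groth.Agent.Lib.Helper18.Key.Additive
import Groth.Agent.Lib.Helper18.Key.PerPrime
import Groth.Agent.Lib.Helper18.Key.Theta

/-!
# The key lemma in the monomial case
-/

set_option autoImplicit false
universe u

namespace Groth.Agent.Lib.Helper18.Key

open IsLocalRing CycAlg Groth.Agent.Lib.Helper18.Tame

variable {A : Type u} [CommRing A] [IsNoetherianRing A] [IsLocalRing A]

/-- The contraction to `A` of the ideal generated by `t` in `A_q`. -/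
def Iq (t : A) (q : PrimeSpectrum A) : Ideal A :=
  sat q.asIdeal (Ideal.span {algebraMap A (Localization.AtPrime q.asIdeal) t})

theorem mem_Iq_self (t : A) (q : PrimeSpectrum A) : t ∈ Iq t q := by
  unfold Iq
  rw [mem_sat]
  exact Ideal.subset_span rfl

theorem map_mem_nonZeroDivisors {t : A} (ht : t ∈ nonZeroDivisors A) (q : Ideal A) [q.IsPrime] :
    algebraMap A (Localization.AtPrime q) t ∈ nonZeroDivisors (Localization.AtPrime q) :=
  IsLocalization.map_nonZeroDivisors_le q.primeCompl (Localization.AtPrime q)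
    (Submonoid.mem_map_of_mem _ ht)

section Fixed

variable (hA : ringKrullDim A ≤ 2) {t : A} (ht : t ∈ nonZeroDivisors A)

include hA ht

theorem exists_pow_le_span (q : PrimeSpectrum A)
    (hq : t ∈ q.asIdeal ∧ q.asIdeal ≠ maximalIdeal A) :
    ∃ k : ℕ, maximalIdeal (Localization.AtPrime q.asIdeal) ^ k ≤
      Ideal.span {algebraMap A (Localization.AtPrime q.asIdeal) t} := by
  haveI : IsNoetherianRing (Localization.AtPrime q.asIdeal) :=
    IsLocalization.isNoetherianRing q.asIdeal.primeCompl _ inferInstance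
  exact Groth.Agent.Lib.Helper2.ChiLocal2.exists_pow_le_of_dim_one _
    (ringKrullDim_atPrime_le_one hA ht q.asIdeal hq.1 hq.2) (map_mem_nonZeroDivisors ht q.asIdeal)

theorem le_of_Iq_le (q : PrimeSpectrum A) (hq : t ∈ q.asIdeal ∧ q.asIdeal ≠ maximalIdeal A)
    (p : Ideal A) [p.IsPrime] (h : Iq t q ≤ p) : q.asIdeal ≤ p := by
  obtain ⟨k, hk⟩ := exists_pow_le_span hA ht q hq
  exact Ideal.IsPrime.le_of_pow_le ((pow_le_sat hk).trans h)

theorem length_quot_sup_lt_top (F : Finset (PrimeSpectrum A))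
    (hF : ∀ q ∈ F, t ∈ q.asIdeal ∧ q.asIdeal ≠ maximalIdeal A) (q : PrimeSpectrum A)
    (hq : t ∈ q.asIdeal ∧ q.asIdeal ≠ maximalIdeal A) (hqF : q ∉ F) :
    Module.length A (A ⧸ (Iq t q ⊔ F.inf (Iq t))) < ⊤ := by
  have hpow : ∃ n : ℕ, maximalIdeal A ^ n ≤ Iq t q ⊔ F.inf (Iq t) := by
    apply Ideal.exists_pow_le_of_le_radical_of_fg _ (IsNoetherian.noetherian _)
    rw [Ideal.radical_eq_sInf]
    apply le_sInf
    rintro p ⟨hp, hpp⟩
    haveI := hpp
    have h1 : q.asIdeal ≤ p := le_of_Iq_le hA ht q hq p (le_sup_left.trans hp)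
    obtain ⟨q', hq'F, hq'⟩ := (Ideal.IsPrime.inf_le' hpp).1 (le_sup_right.trans hp)
    have h2 : q'.asIdeal ≤ p := le_of_Iq_le hA ht q' (hF q' hq'F) p hq'
    rcases eq_or_eq_maximalIdeal_of_le hA ht q.asIdeal hq.1 p h1 with h3 | h3
    · exfalso
      rw [h3] at h2
      rcases eq_or_eq_maximalIdeal_of_le hA ht q'.asIdeal (hF q' hq'F).1 q.asIdeal h2 with
        h4 | h4
      · apply hqF
        have : q = q' := PrimeSpectrum.ext h4
        rw [this]
        exact hq'F
      · exact hq.2 h4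
    · exact h3.ge
  obtain ⟨n, hn⟩ := hpow
  exact lt_top_iff_ne_top.2 (length_quot_ideal_ne_top_of_pow (A := A) (B := A) _ n
    (fun r hr => hn hr))

end Fixed

/-- Additivity over a finite set of primes. -/
theorem herbrand_inf (hA : ringKrullDim A ≤ 2) {a b : A} (hab : a * b ∈ nonZeroDivisors A)
    (F : Finset (PrimeSpectrum A))
    (hF : ∀ q ∈ F, a * b ∈ q.asIdeal ∧ q.asIdeal ≠ maximalIdeal A)
    (hfin : ∀ q ∈ F, FinCoh A (mu (Iq (a * b) q) a) (mu (Iq (a * b) q) b)) :
    FinCoh A (mu (F.inf (Iq (a * b))) a) (mu (F.inf (Iq (a * b))) b) ∧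
      herbrand A (mu (F.inf (Iq (a * b))) a) (mu (F.inf (Iq (a * b))) b) =
        ∑ q ∈ F, herbrand A (mu (Iq (a * b) q) a) (mu (Iq (a * b) q) b) := by
  classical
  induction F using Finset.induction_on with
  | empty =>
    rw [Finset.inf_empty, Finset.sum_empty]
    haveI : Subsingleton (A ⧸ (⊤ : Ideal A)) := Ideal.Quotient.subsingleton_iff.2 rfl
    apply herbrand_sm_of_finite a b (fun m => Subsingleton.elim _ _)
    rw [Module.length_eq_zero]
    exact ENat.top_pos
  | insert q F hqF ih =>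
    have hF' : ∀ q ∈ F, a * b ∈ q.asIdeal ∧ q.asIdeal ≠ maximalIdeal A :=
      fun q' hq' => hF q' (Finset.mem_insert_of_mem hq')
    obtain ⟨f1, e1⟩ := ih hF' (fun q' hq' => hfin q' (Finset.mem_insert_of_mem hq'))
    have hJ : a * b ∈ F.inf (Iq (a * b)) := by
      rw [Submodule.mem_finsetInf]
      intro q' _
      exact mem_Iq_self _ _
    obtain ⟨f2, e2⟩ := herbrand_quot_inf a b (Iq (a * b) q) (F.inf (Iq (a * b)))
      (mem_Iq_self _ _) hJ (hfin q (Finset.mem_insert_self q F)) f1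
      (length_quot_sup_lt_top hA hab F hF' q (hF q (Finset.mem_insert_self q F)) hqF)
    rw [Finset.inf_insert, Finset.sum_insert hqF]
    exact ⟨f2, by rw [e2, e1]⟩

end Groth.Agent.Lib.Helper18.Key
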