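import Mathlib
import Groth.Prelude.Def_Tame
import Groth.Agent.Lib.Helper18.Key.Global

/-!
# The key lemma in the monomial case: the final assembly
-/

set_option autoImplicit false
universe u

namespace Groth.Agent.Lib.Helper18.Key

open IsLocalRing CycAlg Groth.Agent.Lib.Helper18.Tame

section General

variable {A : Type u} [CommRing A]

theorem length_perH_eq_zero {M : Type u} [AddCommGroup M] [Module A M] (φ ψ : M →ₗ[A] M)
    (h : LinearMap.ker φ ≤ LinearMap.range ψ) : Module.length A (perH φ ψ) = 0 := by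
  rw [Module.length_eq_zero_iff]
  constructor
  intro x y
  obtain ⟨⟨n, hn⟩, rfl⟩ := Submodule.Quotient.mk_surjective _ x
  obtain ⟨⟨n', hn'⟩, rfl⟩ := Submodule.Quotient.mk_surjective _ y
  rw [Submodule.Quotient.eq, Submodule.submoduleOf, Submodule.mem_comap]
  exact h (Submodule.sub_mem _ hn hn')

/-- The complex `(A/ab; a, b)` is exact. -/
theorem herbrand_quot_span {a b : A} (ha : a ∈ nonZeroDivisors A) (hb : b ∈ nonZeroDivisors A) :
    FinCoh A (mu (Ideal.span {a * b}) a) (mu (Ideal.span {a * b}) b) ∧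
      herbrand A (mu (Ideal.span {a * b}) a) (mu (Ideal.span {a * b}) b) = 0 := by
  have key : ∀ (a b : A), a ∈ nonZeroDivisors A →
      LinearMap.ker (mu (Ideal.span {a * b}) a) ≤ LinearMap.range (mu (Ideal.span {a * b}) b) := by
    intro a b ha n hn
    obtain ⟨y, rfl⟩ := Ideal.Quotient.mk_surjective n
    rw [LinearMap.mem_ker, mu_mk, Ideal.Quotient.eq_zero_iff_mem, Ideal.mem_span_singleton'] at hn
    obtain ⟨c, hc⟩ := hn
    have h1 : a * (c * b - y) = 0 := by linear_combination hc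
    have h2 : c * b - y = 0 := (mem_nonZeroDivisors_iff.1 ha).1 _ h1
    refine ⟨Ideal.Quotient.mk _ c, ?_⟩
    have h3 : y = c * b := (sub_eq_zero.1 h2).symm
    rw [mu_mk, h3, mul_comm b c]
  have h0 := length_perH_eq_zero _ _ (key a b ha)
  have h1 := length_perH_eq_zero _ _ (by
    have := key b a hb
    rwa [mul_comm b a] at this)
  refine ⟨⟨by rw [h0]; exact ENat.top_pos, by rw [h1]; exact ENat.top_pos⟩, ?_⟩
  unfold herbrand
  rw [h0, h1]
  simp

end General

variable {A : Type u} [CommRing A] [IsNoetherianRing A] [IsLocalRing A]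

/-- An element of the contraction of `t A_q` is multiplied into `t A` by an element outside
`q`. -/
theorem exists_mul_mem_span_of_mem_Iq {t : A} (q : PrimeSpectrum A) {y : A} (hy : y ∈ Iq t q) :
    ∃ σ : A, σ ∉ q.asIdeal ∧ σ * y ∈ Ideal.span {t} := by
  unfold Iq at hy
  rw [mem_sat, Ideal.mem_span_singleton'] at hy
  obtain ⟨c, hc⟩ := hy
  obtain ⟨⟨c₀, σ₁⟩, hσ₁⟩ := IsLocalization.surj q.asIdeal.primeCompl c
  have h1 : algebraMap A (Localization.AtPrime q.asIdeal) (σ₁ * y) =
      algebraMap A (Localization.AtPrime q.asIdeal) (c₀ * t) := by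
    rw [map_mul, map_mul, ← hc, ← hσ₁]
    ring
  obtain ⟨σ₂, hσ₂⟩ := (IsLocalization.eq_iff_exists q.asIdeal.primeCompl _).1 h1
  refine ⟨σ₂ * σ₁, q.asIdeal.primeCompl.mul_mem σ₂.2 σ₁.2, ?_⟩
  rw [Ideal.mem_span_singleton']
  refine ⟨σ₂ * c₀, ?_⟩
  rw [mul_assoc, mul_assoc, hσ₂]

section Fixed

variable (hA : ringKrullDim A ≤ 2) {t : A} (ht : t ∈ nonZeroDivisors A)

include hA ht

theorem finite_primes_through :
    {q : PrimeSpectrum A | t ∈ q.asIdeal ∧ q.asIdeal ≠ maximalIdeal A}.Finite := by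
  have hfin := Ideal.finite_minimalPrimes_of_isNoetherianRing A (Ideal.span {t})
  refine Set.Finite.subset (hfin.preimage (f := fun q : PrimeSpectrum A => q.asIdeal) ?_) ?_
  · intro q _ q' _ h
    exact PrimeSpectrum.ext h
  · rintro q ⟨hq1, hq2⟩
    refine ⟨⟨q.isPrime, (Ideal.span_singleton_le_iff_mem _).2 hq1⟩, ?_⟩
    rintro p ⟨hp, hpt⟩ hpq
    haveI := hp
    rcases eq_or_lt_of_le hpq with h | h
    · exact h.ge
    · exfalso
      exact hq2 (eq_maximalIdeal_of_lt hA ht p ((Ideal.span_singleton_le_iff_mem _).1 hpt)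
        q.asIdeal h)

/-- The kernel of `A/t → A/⋂ I_q` has finite length when all primes through `t` are used. -/
theorem length_ker_factor_lt_top (F : Finset (PrimeSpectrum A))
    (hF : ∀ q, q ∈ F ↔ (t ∈ q.asIdeal ∧ q.asIdeal ≠ maximalIdeal A))
    (hle : Ideal.span {t} ≤ F.inf (Iq t)) :
    Module.length A (LinearMap.ker (Submodule.factor hle)) < ⊤ := by
  classical
  set J := F.inf (Iq t) with hJ
  set 𝔠 : Ideal A := (Ideal.span {t}).colon (J : Set A) with h𝔠
  have hpow : ∃ n : ℕ, maximalIdeal A ^ n ≤ 𝔠 := by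
    apply Ideal.exists_pow_le_of_le_radical_of_fg _ (IsNoetherian.noetherian _)
    rw [Ideal.radical_eq_sInf]
    apply le_sInf
    rintro p ⟨hp, hpp⟩
    haveI := hpp
    have htc : t ∈ 𝔠 := by
      rw [h𝔠, Submodule.mem_colon]
      intro y _
      exact Ideal.mul_mem_right _ _ (Ideal.subset_span rfl)
    by_contra hne
    have hpm : p ≠ maximalIdeal A := fun h => hne h.ge
    let ps : PrimeSpectrum A := ⟨p, hpp⟩
    have hpF : ps ∈ F := (hF ps).2 ⟨hp htc, hpm⟩
    -- an element of `𝔠` outside `p`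
    obtain ⟨S, hS⟩ := (IsNoetherian.noetherian J : J.FG)
    have hSJ : ∀ y ∈ S, y ∈ Iq t ps := by
      intro y hy
      have : y ∈ J := by
        rw [← hS]
        exact Submodule.subset_span hy
      rw [hJ, Submodule.mem_finsetInf] at this
      exact this ps hpF
    have hex : ∀ y : A, ∃ σ : A, σ ∉ p ∧ (y ∈ S → σ * y ∈ Ideal.span {t}) := by
      intro y
      by_cases hy : y ∈ S
      · obtain ⟨σ, h1, h2⟩ := exists_mul_mem_span_of_mem_Iq ps (hSJ y hy)
        exact ⟨σ, h1, fun _ => h2⟩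
      · exact ⟨1, fun h => hpp.ne_top ((Ideal.eq_top_iff_one p).2 h), fun h => absurd h hy⟩
    choose σ hσp hσy using hex
    set τ : A := ∏ y ∈ S, σ y with hτ
    have hτp : τ ∉ p := by
      intro hmem
      obtain ⟨y, -, hy⟩ := (Ideal.IsPrime.prod_mem_iff).1 hmem
      exact hσp y hy
    apply hτp
    apply hp
    rw [h𝔠, Submodule.mem_colon]
    have hall : ∀ y ∈ Submodule.span A (S : Set A), τ • y ∈ Ideal.span {t} := by
      intro y hy'
      induction hy' using Submodule.span_induction with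
      | mem z hz =>
        rw [smul_eq_mul, hτ, ← Finset.mul_prod_erase S σ hz, mul_comm (σ z), mul_assoc]
        exact Ideal.mul_mem_left _ _ (hσy z hz)
      | zero => rw [smul_zero]; exact Ideal.zero_mem _
      | add y z _ _ hy hz => rw [smul_add]; exact Ideal.add_mem _ hy hz
      | smul c y _ hy =>
        rw [smul_comm]
        exact Ideal.mul_mem_left _ _ hy
    intro y hy
    exact hall y (by rw [hS]; exact hy)
  obtain ⟨n, hn⟩ := hpow
  have h3 := length_quot_ne_top_of_pow_smul_le (A := A)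
    (M := LinearMap.ker (Submodule.factor hle))
    (⊥ : Submodule A (LinearMap.ker (Submodule.factor hle))) n (by
      intro r hr x
      rw [Submodule.mem_bot]
      obtain ⟨m, hm⟩ := x
      apply Subtype.ext
      show r • m = 0
      obtain ⟨y, rfl⟩ := Ideal.Quotient.mk_surjective m
      have hyJ : y ∈ J := by
        have := (LinearMap.mem_ker).1 hm
        exact Ideal.Quotient.eq_zero_iff_mem.1 this
      have hr' : r ∈ 𝔠 := hn hr
      rw [h𝔠, Submodule.mem_colon] at hr'
      rw [smul_mk, Ideal.Quotient.eq_zero_iff_mem]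
      exact hr' y hyJ)
  rw [(Submodule.quotEquivOfEqBot (⊥ : Submodule A (LinearMap.ker (Submodule.factor hle)))
    rfl).length_eq] at h3
  exact lt_top_iff_ne_top.2 h3

end Fixed

/-- **The key lemma in the monomial case.** -/
theorem key_monomial (hA : ringKrullDim A ≤ 2) {a b : A} (ha : a ∈ nonZeroDivisors A)
    (hb : b ∈ nonZeroDivisors A)
    (P : ∀ q : PrimeSpectrum A, a * b ∈ q.asIdeal → q.asIdeal ≠ maximalIdeal A →
      Pres (Localization.AtPrime q.asIdeal) (algebraMap A (Localization.AtPrime q.asIdeal) a)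
        (algebraMap A (Localization.AtPrime q.asIdeal) b)) :
    ∑ᶠ q : {q : PrimeSpectrum A // a * b ∈ q.asIdeal ∧ q.asIdeal ≠ maximalIdeal A},
      ordFrac (A ⧸ q.1.asIdeal) q.1.asIdeal.ResidueField (P q.1 q.2.1 q.2.2).theta = 0 := by
  classical
  have hab : a * b ∈ nonZeroDivisors A := mul_mem ha hb
  set S : Set (PrimeSpectrum A) := {q | a * b ∈ q.asIdeal ∧ q.asIdeal ≠ maximalIdeal A} with hS
  have hSfin : S.Finite := finite_primes_through hA hab
  set F : Finset (PrimeSpectrum A) := hSfin.toFinset with hFdef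
  have hF : ∀ q, q ∈ F ↔ (a * b ∈ q.asIdeal ∧ q.asIdeal ≠ maximalIdeal A) := by
    intro q
    rw [hFdef, Set.Finite.mem_toFinset]
    rfl
  -- the per-prime computation
  have hper : ∀ q (hq : a * b ∈ q.asIdeal ∧ q.asIdeal ≠ maximalIdeal A),
      FinCoh A (mu (Iq (a * b) q) a) (mu (Iq (a * b) q) b) ∧
      herbrand A (mu (Iq (a * b) q) a) (mu (Iq (a * b) q) b) =
        - ordFrac (A ⧸ q.asIdeal) q.asIdeal.ResidueField (P q hq.1 hq.2).theta := by
    intro q hq
    have hdim := ringKrullDim_atPrime_le_one hA hab q.asIdeal hq.1 hq.2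
    haveI : IsNoetherianRing (Localization.AtPrime q.asIdeal) :=
      IsLocalization.isNoetherianRing q.asIdeal.primeCompl _ inferInstance
    haveI : Ring.KrullDimLE 1 (Localization.AtPrime q.asIdeal) :=
      (Order.krullDimLE_iff 1 _).2 hdim
    haveI : Ring.KrullDimLE 1 (A ⧸ q.asIdeal) := krullDimLE_one_quotient hA hab q.asIdeal hq.1
    obtain ⟨G, hG⟩ := exists_gpres (P q hq.1 hq.2)
    have hq2 : ∀ p : Ideal A, p.IsPrime → q.asIdeal ≤ p → p = q.asIdeal ∨ p = maximalIdeal A :=
      fun p hp hle => by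
        haveI := hp
        exact eq_or_eq_maximalIdeal_of_le hA hab q.asIdeal hq.1 p hle
    obtain ⟨h1, h2⟩ := herbrand_eq_of_gpres hq2 hq.2 hdim (map_mem_nonZeroDivisors ha q.asIdeal)
      (map_mem_nonZeroDivisors hb q.asIdeal) G
    refine ⟨h1, ?_⟩
    unfold Iq
    rw [h2, ← hG, ordFrac_theta]
    ring
  -- additivity
  obtain ⟨f1, e1⟩ := herbrand_inf hA hab F (fun q hq => (hF q).1 hq)
    (fun q hq => (hper q ((hF q).1 hq)).1)
  have hle : Ideal.span {a * b} ≤ F.inf (Iq (a * b)) := by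
    rw [Ideal.span_singleton_le_iff_mem, Submodule.mem_finsetInf]
    intro q _
    exact mem_Iq_self _ _
  obtain ⟨f0, e0⟩ := herbrand_quot_span ha hb
  have kill : ∀ m : A ⧸ Ideal.span {a * b}, (a * b) • m = 0 := by
    intro m
    obtain ⟨y, rfl⟩ := Ideal.Quotient.mk_surjective m
    rw [smul_mk, Ideal.Quotient.eq_zero_iff_mem]
    exact Ideal.mul_mem_right _ _ (Ideal.subset_span rfl)
  have hK := length_ker_factor_lt_top hA hab F hF hle
  have kill' : ∀ m : LinearMap.ker (Submodule.factor hle), (a * b) • m = 0 := by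
    intro m
    apply Subtype.ext
    exact kill m.1
  obtain ⟨fK, eK⟩ := herbrand_sm_of_finite a b kill' hK
  have hses := herbrand_sm_shortExact a b (LinearMap.ker (Submodule.factor hle)).subtype
    (Submodule.factor hle) (Submodule.subtype_injective _) (Submodule.factor_surjective hle)
    (Submodule.range_subtype _) kill (Or.inl ⟨fK, f0⟩)
  have h4 := hses.2.2.2
  have e0' : herbrand A (sm (A ⧸ Ideal.span {a * b}) a) (sm (A ⧸ Ideal.span {a * b}) b) = 0 := e0
  have e1' : herbrand A (sm (A ⧸ F.inf (Iq (a * b))) a) (sm (A ⧸ F.inf (Iq (a * b))) b) =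
      ∑ q ∈ F, herbrand A (mu (Iq (a * b) q) a) (mu (Iq (a * b) q) b) := e1
  rw [e0', eK, zero_add, e1'] at h4
  -- convert the sum
  let g : PrimeSpectrum A → ℤ := fun q =>
    if h : a * b ∈ q.asIdeal ∧ q.asIdeal ≠ maximalIdeal A then
      ordFrac (A ⧸ q.asIdeal) q.asIdeal.ResidueField (P q h.1 h.2).theta else 0
  have hg : ∀ q : {q : PrimeSpectrum A // a * b ∈ q.asIdeal ∧ q.asIdeal ≠ maximalIdeal A},
      ordFrac (A ⧸ q.1.asIdeal) q.1.asIdeal.ResidueField (P q.1 q.2.1 q.2.2).theta = g q.1 := by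
    intro q
    simp only [g]
    rw [dif_pos q.2]
  rw [finsum_congr hg]
  have h5 : ∑ᶠ q : {q : PrimeSpectrum A // a * b ∈ q.asIdeal ∧ q.asIdeal ≠ maximalIdeal A},
      g q.1 = ∑ᶠ q ∈ S, g q := finsum_set_coe_eq_finsum_mem (f := g) S
  rw [h5, finsum_mem_eq_finite_toFinset_sum g hSfin]
  have h6 : ∑ q ∈ F, herbrand A (mu (Iq (a * b) q) a) (mu (Iq (a * b) q) b) =
      - ∑ q ∈ F, g q := by
    rw [← Finset.sum_neg_distrib]
    apply Finset.sum_congr rfl
    intro q hq
    have hq' := (hF q).1 hq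
    rw [(hper q hq').2]
    simp only [g]
    rw [dif_pos hq']
  rw [h6] at h4
  linarith

end Groth.Agent.Lib.Helper18.Key
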