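import Mathlib
import Groth.Prelude.Def_Tame
import Groth.Agent.S1851
import Groth.Agent.Lib.Helper18.Tame.Frac
import Groth.Agent.Lib.Helper18.Key.Compare

/-!
# The key lemma for fractions
-/

set_option autoImplicit false
set_option maxHeartbeats 1000000
set_option linter.style.haveILetI false
set_option linter.unusedSectionVars false
universe u

namespace Groth.Agent.Lib.Helper18.Key

open IsLocalRing CycAlg Groth.Agent.Lib.Helper18.Tame Groth.Agent.Lib.Helper24.LatDist
  Groth.Agent.Lib.Helper18.CycDiv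

variable {A : Type u} [CommRing A] [IsNoetherianRing A] [IsLocalRing A] [IsDomain A]

/-- the summand of the key lemma -/
noncomputable def gKey (x y : A) (q : PrimeSpectrum A) : ℤ :=
  ordFrac (A ⧸ q.asIdeal) q.asIdeal.ResidueField
    (tameSymbol (Localization.AtPrime q.asIdeal) (algebraMap A _ x) (algebraMap A _ y))

theorem gKey_eq_zero_of_notMem {x y : A} (q : PrimeSpectrum A) (h : x * y ∉ q.asIdeal) :
    gKey x y q = 0 := by
  have hx : x ∉ q.asIdeal := fun hmem => h (Ideal.mul_mem_right _ _ hmem)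
  have hy : y ∉ q.asIdeal := fun hmem => h (Ideal.mul_mem_left _ _ hmem)
  have hux : IsUnit (algebraMap A (Localization.AtPrime q.asIdeal) x) :=
    IsLocalization.map_units _ (⟨x, hx⟩ : q.asIdeal.primeCompl)
  have huy : IsUnit (algebraMap A (Localization.AtPrime q.asIdeal) y) :=
    IsLocalization.map_units _ (⟨y, hy⟩ : q.asIdeal.primeCompl)
  haveI : IsNoetherianRing (Localization.AtPrime q.asIdeal) :=
    IsLocalization.isNoetherianRing q.asIdeal.primeCompl _ inferInstance
  unfold gKey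
  rw [tameSymbol_eq_one_of_units hux huy, ordFrac_one']

theorem finite_support_gKey (hA : ringKrullDim A = 2) {x y : A} (hx : x ≠ 0) (hy : y ≠ 0) :
    (Function.support (fun q : PrimeSpectrum A =>
      ∑ᶠ (_ : q.asIdeal.height = 1), gKey x y q)).Finite := by
  have hxy : x * y ∈ nonZeroDivisors A := mem_nonZeroDivisors_of_ne_zero (mul_ne_zero hx hy)
  have hfin := finite_primes_through hA.le hxy
  refine hfin.subset ?_
  intro q hq
  rw [Function.mem_support, finsum_eq_if] at hq
  have hht : q.asIdeal.height = 1 := by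
    by_contra hne
    exact hq (if_neg hne)
  rw [if_pos hht] at hq
  have hheight : (maximalIdeal A).height = 2 := by
    have h1 := IsLocalRing.maximalIdeal_height_eq_ringKrullDim (R := A)
    rw [hA] at h1
    exact WithBot.coe_injective h1
  refine ⟨?_, ?_⟩
  · by_contra hnot
    exact hq (gKey_eq_zero_of_notMem q hnot)
  · intro heq
    rw [heq, hheight] at hht
    exact absurd hht (by norm_num)

/-- a height-one prime of a two-dimensional local domain has a one-dimensional quotient -/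
theorem facts_of_height_one (hA : ringKrullDim A = 2) (q : PrimeSpectrum A)
    (hht : q.asIdeal.height = 1) :
    Ring.KrullDimLE 1 (A ⧸ q.asIdeal) ∧ ringKrullDim (Localization.AtPrime q.asIdeal) ≤ 1 := by
  have hne : q.asIdeal ≠ ⊥ := by
    intro h0
    have h1 : q.asIdeal.height = 0 := by
      rw [Ideal.height_eq_zero_iff, h0, IsDomain.minimalPrimes_eq_singleton_bot]
      rfl
    rw [h1] at hht
    exact absurd hht (by norm_num)
  obtain ⟨t, htq, ht0⟩ := Submodule.exists_mem_ne_zero_of_ne_bot hne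
  refine ⟨krullDimLE_one_quotient hA.le (mem_nonZeroDivisors_of_ne_zero ht0) q.asIdeal htq, ?_⟩
  rw [IsLocalization.AtPrime.ringKrullDim_eq_height q.asIdeal (Localization.AtPrime q.asIdeal),
    hht]
  rfl

/-- **The key lemma for fractions.** -/
theorem akf (hA : ringKrullDim A = 2) {p₁ p₂ r₁ r₂ : A} (hp₁ : p₁ ≠ 0) (hp₂ : p₂ ≠ 0)
    (hr₁ : r₁ ≠ 0) (hr₂ : r₂ ≠ 0) :
    ∑ᶠ (q : PrimeSpectrum A) (_ : q.asIdeal.height = 1),
      ordFrac (A ⧸ q.asIdeal) q.asIdeal.ResidueField
        (symT (Localization.AtPrime q.asIdeal) (algebraMap A _ p₁) (algebraMap A _ p₂)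
          (algebraMap A _ r₁) (algebraMap A _ r₂)) = 0 := by
  classical
  have nzd : ∀ {z : A}, z ≠ 0 → z ∈ nonZeroDivisors A := fun hz =>
    mem_nonZeroDivisors_of_ne_zero hz
  have e11 := Groth.Agent.S1851.result A hA p₁ r₁ (nzd hp₁) (nzd hr₁)
  have e22 := Groth.Agent.S1851.result A hA p₂ r₂ (nzd hp₂) (nzd hr₂)
  have e12 := Groth.Agent.S1851.result A hA p₁ r₂ (nzd hp₁) (nzd hr₂)
  have e21 := Groth.Agent.S1851.result A hA p₂ r₁ (nzd hp₂) (nzd hr₁)
  have f11 := finite_support_gKey hA hp₁ hr₁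
  have f22 := finite_support_gKey hA hp₂ hr₂
  have f12 := finite_support_gKey hA hp₁ hr₂
  have f21 := finite_support_gKey hA hp₂ hr₁
  have hper : ∀ q : PrimeSpectrum A,
      (∑ᶠ (_ : q.asIdeal.height = 1), ordFrac (A ⧸ q.asIdeal) q.asIdeal.ResidueField
        (symT (Localization.AtPrime q.asIdeal) (algebraMap A _ p₁) (algebraMap A _ p₂)
          (algebraMap A _ r₁) (algebraMap A _ r₂))) =
      ((∑ᶠ (_ : q.asIdeal.height = 1), gKey p₁ r₁ q) +
        (∑ᶠ (_ : q.asIdeal.height = 1), gKey p₂ r₂ q)) -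
      ((∑ᶠ (_ : q.asIdeal.height = 1), gKey p₁ r₂ q) +
        (∑ᶠ (_ : q.asIdeal.height = 1), gKey p₂ r₁ q)) := by
    intro q
    rw [finsum_eq_if, finsum_eq_if, finsum_eq_if, finsum_eq_if, finsum_eq_if]
    by_cases hht : q.asIdeal.height = 1
    · rw [if_pos hht, if_pos hht, if_pos hht, if_pos hht, if_pos hht]
      obtain ⟨hd, hdim⟩ := facts_of_height_one hA q hht
      haveI := hd
      haveI : IsNoetherianRing (Localization.AtPrime q.asIdeal) :=
        IsLocalization.isNoetherianRing q.asIdeal.primeCompl _ inferInstance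
      have hz : ∀ {z : A}, z ≠ 0 → algebraMap A (Localization.AtPrime q.asIdeal) z ∈
          nonZeroDivisors (Localization.AtPrime q.asIdeal) := fun hz =>
        map_mem_nonZeroDivisors' (nzd hz) q.asIdeal
      have n11 := ts_ne_zero hdim (hz hp₁) (hz hr₁)
      have n22 := ts_ne_zero hdim (hz hp₂) (hz hr₂)
      have n12 := ts_ne_zero hdim (hz hp₁) (hz hr₂)
      have n21 := ts_ne_zero hdim (hz hp₂) (hz hr₁)
      unfold symT gKey
      rw [div_eq_mul_inv, ordZ_mul (mul_ne_zero n11 n22) (inv_ne_zero (mul_ne_zero n12 n21)),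
        ordZ_inv, ordZ_mul n11 n22, ordZ_mul n12 n21]
      ring
    · rw [if_neg hht, if_neg hht, if_neg hht, if_neg hht, if_neg hht]
      ring
  rw [finsum_congr hper, finsum_sub_distrib ((f11.union f22).subset (Function.support_add _ _))
    ((f12.union f21).subset (Function.support_add _ _)),
    finsum_add_distrib f11 f22, finsum_add_distrib f12 f21]
  have e11' : ∑ᶠ q : PrimeSpectrum A, ∑ᶠ (_ : q.asIdeal.height = 1), gKey p₁ r₁ q = 0 := e11
  have e22' : ∑ᶠ q : PrimeSpectrum A, ∑ᶠ (_ : q.asIdeal.height = 1), gKey p₂ r₂ q = 0 := e22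
  have e12' : ∑ᶠ q : PrimeSpectrum A, ∑ᶠ (_ : q.asIdeal.height = 1), gKey p₁ r₂ q = 0 := e12
  have e21' : ∑ᶠ q : PrimeSpectrum A, ∑ᶠ (_ : q.asIdeal.height = 1), gKey p₂ r₁ q = 0 := e21
  rw [e11', e22', e12', e21']
  ring

end Groth.Agent.Lib.Helper18.Key
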